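import Groth.Agent.RedCell22.SplitPts
import Groth.Agent.GrpSchLib.MonoSubgroup
import Mathlib.AlgebraicGeometry.Morphisms.FiniteType
import Mathlib.AlgebraicGeometry.AlgClosed.Basic

/-! Factorization through closed subschemes on rational points; the centralizer of a rational point. -/

set_option linter.style.haveILetI false
set_option backward.isDefEq.respectTransparency false
set_option backward.isDefEq.respectTransparency.types false

universe u

open CategoryTheory CategoryTheory.Limits AlgebraicGeometry MonoidalCategory CartesianMonoidalCategory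
open MonObj GrpObj

namespace Groth.Agent.DynX

open RedCell22

variable {k : Type u} [Field k]

/-- A morphism out of a reduced scheme factors through a closed subscheme containing the images of the
rational points. -/
theorem exists_factor_of_kpoints [IsAlgClosed k] {X Y Z : Over (Spec (CommRingCat.of k))} (i : Z ⟶ Y)
    [IsClosedImmersion i.left] (f : X ⟶ Y) [LocallyOfFiniteType X.hom] [IsReduced X.left]
    (h : ∀ x : tb (𝟙 (Spec (CommRingCat.of k))) k ⟶ X, ∃ z, z ≫ i = x ≫ f) : ∃ g, g ≫ i = f := by
  have sq := IsPullback.of_hasPullback f.left i.left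
  let P := pullback f.left i.left
  let p : P ⟶ X.left := pullback.fst f.left i.left
  haveI := LocallyOfFiniteType.jacobsonSpace X.hom
  have hp : Set.univ ⊆ Set.range p := by
    rw [← closure_closedPoints (X := X.left)]
    refine closure_minimal ?_ (Scheme.Hom.isClosedEmbedding p).isClosed_range
    intro x hx
    let xk : tb (𝟙 (Spec (CommRingCat.of k))) k ⟶ X :=
      Over.homMk ((pointEquivClosedPoint X.hom).symm ⟨x, hx⟩).1 (by
        refine ((pointEquivClosedPoint X.hom).symm ⟨x, hx⟩).2.trans ?_
        simp [tb])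
    obtain ⟨z, hz⟩ := h xk
    refine ⟨(pullback.lift xk.left z.left (congrArg CommaMorphism.left hz.symm) : _ ⟶ P) (IsLocalRing.closedPoint k), ?_⟩
    rw [← Scheme.Hom.comp_apply, pullback.lift_fst]
    exact congrArg Subtype.val ((pointEquivClosedPoint X.hom).apply_symm_apply ⟨x, hx⟩)
  haveI : Surjective p := ⟨fun x => hp (Set.mem_univ x)⟩
  haveI : IsIso p := isIso_of_isClosedImmersion_of_surjective p
  refine ⟨Over.homMk (inv p ≫ pullback.snd f.left i.left) ?_, Over.OverMorphism.ext ?_⟩
  · rw [← Over.w i, Category.assoc, ← pullback.condition_assoc, IsIso.inv_hom_id_assoc, Over.w f]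
  · show (inv p ≫ pullback.snd f.left i.left) ≫ i.left = f.left
    rw [Category.assoc, ← pullback.condition, IsIso.inv_hom_id_assoc]

/-- The centralizer of a rational point is a closed subgroup. -/
theorem exists_centralizer_point {S : Scheme.{u}} {G : Over S} [GrpObj G] [IsSeparated G.hom]
    (g : 𝟙_ (Over S) ⟶ G) :
    ∃ (E : Over S) (_ : GrpObj E) (j : E ⟶ G), IsMonHom j ∧ IsClosedImmersion j.left ∧
      ∀ (X : Over S) (h : X ⟶ G), (∃ e, e ≫ j = h) ↔ (toUnit X ≫ g) * h = h * (toUnit X ≫ g) := by
  let c : G ⟶ G := (toUnit G ≫ g) * 𝟙 G * ((𝟙 G) * (toUnit G ≫ g))⁻¹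
  haveI : IsClosedImmersion (η[G] : 𝟙_ (Over S) ⟶ G).left := by
    haveI : IsClosedImmersion ((η[G] : 𝟙_ (Over S) ⟶ G).left ≫ G.hom) := by
      rw [Over.w]; exact inferInstanceAs (IsClosedImmersion (𝟙 _))
    exact IsClosedImmersion.of_comp _ G.hom
  let E : Over S := Over.mk (pullback.fst c.left (η[G] : 𝟙_ (Over S) ⟶ G).left ≫ G.hom)
  let j : E ⟶ G := Over.homMk (pullback.fst c.left (η[G] : 𝟙_ (Over S) ⟶ G).left) rfl
  haveI : IsClosedImmersion j.left :=
    inferInstanceAs (IsClosedImmersion (pullback.fst c.left (η[G] : 𝟙_ (Over S) ⟶ G).left))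
  haveI : Mono j.left := inferInstance
  haveI : Mono j := Over.mono_of_mono_left _
  have key : ∀ (X : Over S) (h : X ⟶ G),
      (∃ e, e ≫ j = h) ↔ (toUnit X ≫ g) * h = h * (toUnit X ≫ g) := by
    intro X h
    have hc : h ≫ c = (toUnit X ≫ g) * h * (h * (toUnit X ≫ g))⁻¹ := by
      simp only [c, MonObj.comp_mul, GrpObj.comp_inv, Category.comp_id, comp_toUnit_assoc]
    rw [← mul_inv_eq_one, ← hc]
    constructor
    · rintro ⟨e, rfl⟩
      rw [Category.assoc]
      have : j ≫ c = 1 := Over.OverMorphism.ext (by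
        show pullback.fst _ _ ≫ c.left = (toUnit E).left ≫ (η[G] : 𝟙_ (Over S) ⟶ G).left
        rw [pullback.condition]
        congr 1
        have := congrArg (fun q => q ≫ G.hom) (pullback.condition (f := c.left) (g := (η[G] : 𝟙_ (Over S) ⟶ G).left))
        simp only [Category.assoc, Over.w] at this
        rw [← Category.comp_id (pullback.snd _ _), Over.toUnit_left]
        exact this.symm)
      rw [this, MonObj.comp_one]
    · intro hh
      refine ⟨Over.homMk (pullback.lift h.left (toUnit X).left (congrArg CommaMorphism.left hh)) ?_,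
        Over.OverMorphism.ext (pullback.lift_fst _ _ _)⟩
      show _ ≫ pullback.fst _ _ ≫ G.hom = X.hom
      rw [pullback.lift_fst_assoc, Over.w h]
  obtain ⟨η', he⟩ := (key _ η[G]).2 (by
    have h1 : (η[G] : 𝟙_ (Over S) ⟶ G) = 1 := by
      rw [Hom.one_def, toUnit_unique (toUnit (𝟙_ _)) (𝟙 _), Category.id_comp]
    rw [h1, _root_.mul_one, _root_.one_mul])
  have hj := (key _ j).1 ⟨𝟙 _, Category.id_comp _⟩
  obtain ⟨μ', hm⟩ := (key _ ((fst E E ≫ j) * (snd E E ≫ j))).2 (by
    have e1 : Commute (toUnit (E ⊗ E) ≫ g) (fst E E ≫ j) := by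
      have := congrArg (fst E E ≫ ·) hj
      simp only [MonObj.comp_mul, comp_toUnit_assoc] at this
      exact this
    have e2 : Commute (toUnit (E ⊗ E) ≫ g) (snd E E ≫ j) := by
      have := congrArg (snd E E ≫ ·) hj
      simp only [MonObj.comp_mul, comp_toUnit_assoc] at this
      exact this
    exact (e1.mul_right e2).eq)
  obtain ⟨ι', hv⟩ := (key _ j⁻¹).2 (Commute.inv_right hj).eq
  obtain ⟨str, hstr⟩ := GrpSchLib.exists_grpObj_of_mono j η' he μ' hm ι' hv
  exact ⟨E, str, j, hstr, inferInstance, key⟩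

end Groth.Agent.DynX
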