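import Groth.Agent.FlatMisc.SteinUC
import Mathlib.AlgebraicGeometry.Morphisms.Flat
import Mathlib.RingTheory.Flat.Basic

/-! `O = f_* O` descends along flat surjective morphisms. -/

set_option backward.isDefEq.respectTransparency false
set_option backward.isDefEq.respectTransparency.types false

universe u

open CategoryTheory Limits AlgebraicGeometry TensorProduct

namespace Groth.Agent.DynX

theorem subsingleton_of_forall_flat {R : Type u} [CommRing R] {M : Type u} [AddCommGroup M] [Module R M]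
    (h : ∀ P : Ideal R, P.IsPrime → ∃ (S : Type u) (_ : CommRing S) (_ : Algebra R S) (Q : Ideal S),
      Module.Flat R S ∧ Q.IsPrime ∧ Q.comap (algebraMap R S) = P ∧ Subsingleton (S ⊗[R] M)) :
    Subsingleton M := by
  refine subsingleton_of_forall_eq 0 fun m => by_contra fun hm => ?_
  let f := LinearMap.toSpanSingleton R M m
  let I : Ideal R := LinearMap.ker f
  have hI : I ≠ ⊤ := fun e => hm (by
    have : (1 : R) ∈ I := e ▸ Submodule.mem_top
    simpa [I, f] using this)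
  obtain ⟨P, hP, hIP⟩ := Ideal.exists_le_maximal I hI
  obtain ⟨S, _, _, Q, hS, hQ, hQP, hsub⟩ := h P hP.isPrime
  let g : R ⧸ I →ₗ[R] M := Submodule.liftQ I f le_rfl
  have hg : Function.Injective g :=
    LinearMap.ker_eq_bot.1 (Submodule.ker_liftQ_eq_bot _ _ _ le_rfl)
  have h2 : Subsingleton (S ⊗[R] (R ⧸ I)) :=
    (Module.Flat.lTensor_preserves_injective_linearMap (M := S) g hg).subsingleton
  let φ : S ⊗[R] (R ⧸ I) →ₐ[R] S ⧸ Q := Algebra.TensorProduct.lift (Ideal.Quotient.mkₐ R Q)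
    (Ideal.Quotient.liftₐ I (Algebra.ofId R (S ⧸ Q)) fun a ha => by
      have : algebraMap R S a ∈ Q := by
        rw [← Ideal.mem_comap, hQP]; exact hIP ha
      exact Ideal.Quotient.eq_zero_iff_mem.2 this)
    fun a b => Commute.all _ _
  have : (1 : S ⧸ Q) = 0 := by rw [← map_one φ, ← map_zero φ, Subsingleton.elim (1 : S ⊗[R] (R ⧸ I)) 0]
  exact hQ.ne_top ((Ideal.eq_top_iff_one _).2 (Ideal.Quotient.eq_zero_iff_mem.1 this))

theorem bijective_of_forall_flat {R : Type u} [CommRing R] {M N : Type u} [AddCommGroup M] [Module R M]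
    [AddCommGroup N] [Module R N] (α : M →ₗ[R] N)
    (h : ∀ P : Ideal R, P.IsPrime → ∃ (S : Type u) (_ : CommRing S) (_ : Algebra R S) (Q : Ideal S),
      Module.Flat R S ∧ Q.IsPrime ∧ Q.comap (algebraMap R S) = P ∧ Function.Bijective (α.lTensor S)) :
    Function.Bijective α := by
  constructor
  · rw [← LinearMap.ker_eq_bot, ← Submodule.subsingleton_iff_eq_bot]
    refine subsingleton_of_forall_flat (R := R) fun P hP => ?_
    obtain ⟨S, i1, i2, Q, hS, hQ, hQP, hb⟩ := h P hP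
    refine ⟨S, i1, i2, Q, hS, hQ, hQP, subsingleton_of_forall_eq 0 fun z => ?_⟩
    refine Module.Flat.lTensor_preserves_injective_linearMap (M := S) (LinearMap.ker α).subtype
      Subtype.val_injective (hb.1 ?_)
    rw [← LinearMap.lTensor_comp_apply, map_zero, map_zero,
      show α ∘ₗ (LinearMap.ker α).subtype = 0 from LinearMap.ext fun x => x.2]
    simp
  · rw [← LinearMap.range_eq_top, ← Submodule.Quotient.subsingleton_iff]
    refine subsingleton_of_forall_flat (R := R) fun P hP => ?_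
    obtain ⟨S, i1, i2, Q, hS, hQ, hQP, hb⟩ := h P hP
    refine ⟨S, i1, i2, Q, hS, hQ, hQP, subsingleton_of_forall_eq 0 fun z => ?_⟩
    obtain ⟨w, rfl⟩ := LinearMap.lTensor_surjective S (Submodule.mkQ_surjective (LinearMap.range α)) z
    obtain ⟨v, rfl⟩ := hb.2 w
    rw [← LinearMap.lTensor_comp_apply,
      show (LinearMap.range α).mkQ ∘ₗ α = 0 from LinearMap.ext fun x =>
        (Submodule.Quotient.mk_eq_zero _).2 (LinearMap.mem_range_self α x)]
    simp

/-- `O = f_* O` may be checked after a flat surjective base change. -/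
theorem bijective_app_of_flat_surjective_baseChange {X' X T Y : Scheme.{u}} {t' : X' ⟶ X} {p : X' ⟶ T}
    {f : X ⟶ Y} {t : T ⟶ Y} (H : IsPullback t' p f t) [QuasiCompact f] [QuasiSeparated f] [Flat t] [Surjective t]
    (h : ∀ W : T.Opens, IsAffineOpen W → Function.Bijective (p.app W)) (U : Y.Opens) :
    Function.Bijective (f.app U) := by
  refine FlatMisc.bijective_app_of_isBasis f Y.isBasis_affineOpens (fun V hV => ?_) U
  letI : Algebra Γ(Y, V) Γ(X, f ⁻¹ᵁ V) := (f.app V).hom.toAlgebra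
  refine bijective_of_forall_flat (Algebra.linearMap Γ(Y, V) Γ(X, f ⁻¹ᵁ V)) fun P hP => ?_
  let y : ↥Y := hV.fromSpec (⟨P, hP⟩ : PrimeSpectrum Γ(Y, V))
  have hyV : y ∈ V := by
    have : y ∈ Set.range hV.fromSpec := ⟨_, rfl⟩
    rwa [hV.range_fromSpec] at this
  obtain ⟨x, hx⟩ := t.surjective y
  obtain ⟨_, ⟨W, hW, rfl⟩, hxW, hWV⟩ := T.isBasis_affineOpens.exists_subset_of_mem_open
    (show x ∈ t ⁻¹ᵁ V by show t x ∈ V; rw [hx]; exact hyV) (t ⁻¹ᵁ V).isOpen
  have hWV' : W ≤ t ⁻¹ᵁ V := hWV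
  let ψ := t.appLE V W hWV'
  letI : Algebra Γ(Y, V) Γ(T, W) := ψ.hom.toAlgebra
  refine ⟨Γ(T, W), inferInstance, inferInstance, (hW.primeIdealOf ⟨x, hxW⟩).asIdeal, ?_,
    (hW.primeIdealOf ⟨x, hxW⟩).isPrime, ?_, ?_⟩
  · exact t.flat_appLE hV hW hWV'
  · have e1 := IsAffineOpen.comap_primeIdealOf_appLE (f := t) (x := x) V hV W hW hWV' hxW
    have e2 : hV.primeIdealOf ⟨t x, hWV' hxW⟩ = ⟨P, hP⟩ := by
      apply hV.fromSpec.isOpenEmbedding.injective
      rw [IsAffineOpen.fromSpec_primeIdealOf]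
      exact hx
    exact congrArg PrimeSpectrum.asIdeal (e1.trans e2)
  · have hiso := isIso_pushoutSection_of_isQuasiSeparated_of_flat_right H (US := V) (UT := W) (UX := f ⁻¹ᵁ V)
      (UY := p ⁻¹ᵁ W) hWV' le_rfl
      (by
        rw [eq_comm, inf_eq_right, ← Scheme.Hom.comp_preimage, H.w, Scheme.Hom.comp_preimage]
        exact p.preimage_mono hWV')
      hV hW (f.isCompact_preimage hV.isCompact) (f.isQuasiSeparated_preimage hV.isQuasiSeparated)
    rw [isIso_pushoutSection_iff, ← Scheme.Hom.app_eq_appLE, ← Scheme.Hom.app_eq_appLE] at hiso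
    have hpo : IsPushout (CommRingCat.ofHom (algebraMap Γ(Y, V) Γ(T, W))) (f.app V)
        (CommRingCat.ofHom Algebra.TensorProduct.includeLeftRingHom :
          Γ(T, W) ⟶ CommRingCat.of (Γ(T, W) ⊗[Γ(Y, V)] Γ(X, f ⁻¹ᵁ V)))
        (CommRingCat.ofHom Algebra.TensorProduct.includeRight.toRingHom) :=
      CommRingCat.isPushout_tensorProduct Γ(Y, V) Γ(T, W) Γ(X, f ⁻¹ᵁ V)
    let ε := hpo.isoIsPushout _ _ hiso.flip
    have hinl : Function.Bijective
        (Algebra.TensorProduct.includeLeftRingHom : Γ(T, W) →+* Γ(T, W) ⊗[Γ(Y, V)] Γ(X, f ⁻¹ᵁ V)) := by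
      have e1 : CommRingCat.ofHom Algebra.TensorProduct.includeLeftRingHom ≫ ε.hom = p.app W :=
        IsPushout.inl_isoIsPushout_hom _ _ hpo hiso.flip
      have e2 : ⇑(p.app W).hom = ⇑ε.hom ∘
          ⇑(Algebra.TensorProduct.includeLeftRingHom : Γ(T, W) →+* Γ(T, W) ⊗[Γ(Y, V)] Γ(X, f ⁻¹ᵁ V)) := by
        funext c; exact (congr($e1 c)).symm
      have := h W hW
      rw [e2] at this
      exact (Function.Bijective.of_comp_iff' (ConcreteCategory.bijective_of_isIso ε.hom) _).mp this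
    have e3 : ⇑((Algebra.linearMap Γ(Y, V) Γ(X, f ⁻¹ᵁ V)).lTensor Γ(T, W)) =
        ⇑(Algebra.TensorProduct.includeLeftRingHom : Γ(T, W) →+* Γ(T, W) ⊗[Γ(Y, V)] Γ(X, f ⁻¹ᵁ V)) ∘
          ⇑(TensorProduct.rid Γ(Y, V) Γ(T, W)) := by
      funext z
      induction z using TensorProduct.induction_on with
      | zero => simp
      | tmul a c =>
        simp only [LinearMap.lTensor_tmul, Algebra.linearMap_apply, Function.comp_apply, TensorProduct.rid_tmul]
        show a ⊗ₜ algebraMap Γ(Y, V) Γ(X, f ⁻¹ᵁ V) c = (c • a) ⊗ₜ (1 : Γ(X, f ⁻¹ᵁ V))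
        rw [TensorProduct.smul_tmul, Algebra.algebraMap_eq_smul_one]
      | add s r hs hr =>
        simp only [map_add, Function.comp_apply] at hs hr ⊢
        rw [hs, hr]
    rw [e3]
    exact hinl.comp (TensorProduct.rid Γ(Y, V) Γ(T, W)).bijective

end Groth.Agent.DynX
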