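import Mathlib
import Groth.Agent.ConsPropLib.QFFactor

/-!
# Quasi-finite separated morphisms over a one-dimensional base which are proper on the fibres are affine
-/

set_option linter.style.haveILetI false

universe u

open CategoryTheory CategoryTheory.Limits AlgebraicGeometry TopologicalSpace

namespace Groth.Agent.DynX.QFAffine

/-- A point of the closure of the trace of an open on a closed set specialises from a point of that trace. -/
theorem exists_specializes {α : Type*} [TopologicalSpace α] [NoetherianSpace α] [QuasiSober α]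
    {U F : Set α} (hU : IsOpen U) (hF : IsClosed F) {z : α} (hz : z ∈ closure (U ∩ F)) :
    ∃ x ∈ U ∩ F, x ⤳ z := by
  obtain ⟨S, hSf, hS, hS', hSeq⟩ :=
    NoetherianSpace.exists_finite_set_isClosed_irreducible (α := α) hF
  obtain rfl := hSeq
  have hsub : U ∩ ⋃₀ S = ⋃ t ∈ S, U ∩ t := by rw [Set.sUnion_eq_biUnion]; simp only [Set.inter_iUnion]
  rw [hsub, hSf.closure_biUnion, Set.mem_iUnion₂] at hz
  obtain ⟨t, ht, hzt⟩ := hz
  have hne : (t ∩ U).Nonempty := by
    rw [Set.inter_comm]
    by_contra h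
    rw [Set.not_nonempty_iff_eq_empty.1 h, closure_empty] at hzt
    exact hzt
  have hgen := (hS' t ht).isGenericPoint_genericPoint (hS t ht)
  refine ⟨(hS' t ht).genericPoint, ⟨(hgen.mem_open_set_iff hU).2 hne, t, ht, hgen.mem⟩, hgen.specializes ?_⟩
  exact closure_minimal Set.inter_subset_right (hS t ht) hzt

/-- A closed set all whose points map to closed points has finite image. -/
theorem finite_image {α β : Type*} [TopologicalSpace α] [TopologicalSpace β] [NoetherianSpace α] [QuasiSober α]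
    {h : α → β} (hh : Continuous h) {Z : Set α} (hZ : IsClosed Z) (hc : ∀ z ∈ Z, IsClosed ({h z} : Set β)) :
    (h '' Z).Finite := by
  obtain ⟨S, hSf, hS, hS', rfl⟩ := NoetherianSpace.exists_finite_set_isClosed_irreducible (α := α) hZ
  rw [Set.image_sUnion]
  refine Set.Finite.sUnion (hSf.image _) ?_
  rintro _ ⟨t, ht, rfl⟩
  have hgen := (hS' t ht).isGenericPoint_genericPoint (hS t ht)
  refine (Set.finite_singleton (h (hS' t ht).genericPoint)).subset ?_
  rintro _ ⟨z, hz, rfl⟩
  have hs : h (hS' t ht).genericPoint ⤳ h z := (hgen.specializes hz).map hh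
  exact ((hc _ ⟨t, ht, hgen.mem⟩).closure_eq ▸ specializes_iff_mem_closure.1 hs :)

/-- An open of a scheme which is clopen in an affine open is affine. -/
theorem isAffineOpen_of_clopen {T : Scheme.{u}} {O O' : T.Opens} (hO : IsAffineOpen O) (hle : O' ≤ O)
    (C : Set T) (hC : IsClosed C) (h : ∀ x ∈ O, x ∈ O' ↔ x ∈ C) : IsAffineOpen O' := by
  haveI : IsAffine O.toScheme := hO
  haveI : IsClosedImmersion (T.homOfLE hle) := by
    refine IsClosedImmersion.of_isPreimmersion _ ?_
    have he : Set.range (T.homOfLE hle) = O.ι ⁻¹' C := by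
      ext x
      constructor
      · rintro ⟨a, rfl⟩
        show O.ι (T.homOfLE hle a) ∈ C
        rw [← Scheme.Hom.comp_apply, Scheme.homOfLE_ι]
        exact (h a.1 (hle a.2)).1 a.2
      · intro hx
        refine ⟨⟨x.1, (h x.1 x.2).2 hx⟩, O.ι.isOpenEmbedding.injective ?_⟩
        rw [← Scheme.Hom.comp_apply, Scheme.homOfLE_ι]
        rfl
    rw [he]
    exact hC.preimage O.ι.continuous
  exact isAffine_of_isAffineHom (T.homOfLE hle)

/-- The affine core: the source is affine. -/
theorem isAffine_of_universallyClosed_fibres {R : Type u} [CommRing R] [IsNoetherianRing R] [Ring.KrullDimLE 1 R]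
    {X Y : Scheme.{u}} [IsAffine Y] (g : Y ⟶ Spec (CommRingCat.of R)) [LocallyOfFiniteType g] (f : X ⟶ Y)
    [IsSeparated f] [QuasiCompact f] [LocallyOfFiniteType f] [LocallyQuasiFinite f]
    (hfib : ∀ s : Spec (CommRingCat.of R), ∃ (Z : Scheme.{u}) (j : Z ⟶ Y), IsPreimmersion j ∧
      Set.range j = g ⁻¹' {s} ∧ UniversallyClosed (pullback.snd f j)) : IsAffine X := by
  classical
  obtain ⟨T, i, π, hi, hπ, hiπ⟩ := ConsPropLib.exists_finite_factor f
  haveI : IsAffine T := isAffine_of_isAffineHom π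
  let h := π ≫ g
  haveI : IsLocallyNoetherian T := LocallyOfFiniteType.isLocallyNoetherian h
  haveI : IsNoetherian T := { }
  have key : ∀ x z : T, x ∈ Set.range i → x ⤳ z → h x = h z → z ∈ Set.range i := by
    intro x z hx hxz hh
    obtain ⟨Z, j, hj, hrange, huc⟩ := hfib (h z)
    let q := pullback.fst π j
    haveI : UniversallyClosed (pullback.snd i q) := by
      have e : pullback.snd i q ≫ pullback.snd π j =
          (pullbackRightPullbackFstIso π j i).hom ≫ pullback.snd (i ≫ π) j := by simp [q]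
      subst hiπ
      haveI : UniversallyClosed (pullback.snd i q ≫ pullback.snd π j) := by rw [e]; infer_instance
      exact UniversallyClosed.of_comp_of_isSeparated (pullback.snd i q) (pullback.snd π j)
    have hcl : IsClosed (q ⁻¹' Set.range i) := by
      rw [← Scheme.Pullback.range_snd]
      exact (pullback.snd i q).isClosedMap.isClosed_range
    have hq : ∀ w : T, h w = h z → w ∈ Set.range q := by
      intro w hw
      rw [Scheme.Pullback.range_fst]
      show π w ∈ Set.range j
      rw [hrange]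
      exact hw
    obtain ⟨a, rfl⟩ := hq x hh
    obtain ⟨b, rfl⟩ := hq z rfl
    exact hcl.stableUnderSpecialization (q.isEmbedding.isInducing.specializes_iff.1 hxz) hx
  let U : T.Opens := i.opensRange
  let C : Set T := closure (Set.range i)
  have hsob : ∀ z ∈ C, ∃ x ∈ Set.range i, x ⤳ z := fun z hz => by
    obtain ⟨x, hx, hxz⟩ := exists_specializes (U := Set.range i) (F := Set.univ) U.2 isClosed_univ
      (by rw [Set.inter_univ]; exact hz)
    exact ⟨x, hx.1, hxz⟩
  have hdim := Ring.krullDimLE_one_iff.1 (inferInstance : Ring.KrullDimLE 1 R)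
  have hclosedpt : ∀ s : PrimeSpectrum R, s.asIdeal ∉ minimalPrimes R → IsClosed ({s} : Set (PrimeSpectrum R)) :=
    fun s hs => (PrimeSpectrum.isClosed_singleton_iff_isMaximal s).2
      ((hdim s.asIdeal s.isPrime).resolve_left hs)
  have hnm : ∀ z ∈ C \ Set.range i, (h z : PrimeSpectrum R).asIdeal ∉ minimalPrimes R := by
    rintro z ⟨hzC, hzU⟩ hmin
    obtain ⟨x, hx, hxz⟩ := hsob z hzC
    refine hzU (key x z hx hxz ?_)
    have hle : (h x : PrimeSpectrum R).asIdeal ≤ (h z : PrimeSpectrum R).asIdeal :=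
      (PrimeSpectrum.le_iff_specializes (h x : PrimeSpectrum R) (h z)).2 (hxz.map h.continuous)
    exact PrimeSpectrum.ext (le_antisymm hle (hmin.2 ⟨(h x : PrimeSpectrum R).isPrime, bot_le⟩ hle))
  have hB : (h '' (C \ Set.range i)).Finite :=
    finite_image h.continuous (isClosed_closure.sdiff U.2) fun z hz => hclosedpt _ (hnm z hz)
  suffices hloc : ∀ z : T, ∃ W : T.Opens, z ∈ W ∧ IsAffineOpen W ∧ IsAffineOpen (U ⊓ W) by
    choose W hzW hW hUW using hloc
    haveI : IsAffineHom U.ι := by
      refine isAffineHom_of_forall_exists_isAffineOpen U.ι fun z => ⟨W z, hzW z, hW z, ?_⟩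
      rw [← Scheme.Hom.isAffineOpen_iff_of_isOpenImmersion U.ι, Scheme.Hom.image_preimage_eq_opensRange_inf,
        Scheme.Opens.opensRange_ι]
      exact hUW z
    haveI : IsAffine U.toScheme := isAffine_of_isAffineHom U.ι
    exact IsAffine.of_isIso i.isoOpensRange.hom
  intro z
  by_cases hzU : z ∈ U
  · obtain ⟨W, hW, hzW, hWU⟩ := exists_isAffineOpen_mem_and_subset (U := U) hzU
    exact ⟨W, hzW, hW, by rwa [inf_eq_right.2 (show W ≤ U from hWU)]⟩
  by_cases hzC : z ∉ C
  · obtain ⟨W, hW, hzW, hWC⟩ := exists_isAffineOpen_mem_and_subset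
      (U := (⟨Cᶜ, isClosed_closure.isOpen_compl⟩ : T.Opens)) hzC
    refine ⟨W, hzW, hW, ?_⟩
    rw [show U ⊓ W = ⊥ from eq_bot_iff.2 fun w hw => (hWC hw.2 (subset_closure hw.1)).elim]
    exact isAffineOpen_bot T
  push Not at hzC
  let s : PrimeSpectrum R := h z
  have hsnm := hnm z ⟨hzC, hzU⟩
  obtain ⟨t, hts, ht⟩ : ∃ t ∈ s.asIdeal, ∀ q ∈ minimalPrimes R, t ∉ q := by
    by_contra hcon
    push Not at hcon
    have hfin : (minimalPrimes R).Finite := minimalPrimes.finite_of_isNoetherianRing R
    obtain ⟨q, hq, hle⟩ := (Ideal.subset_union_prime_finite hfin (f := fun q : Ideal R => q) (⊥ : Ideal R) ⊥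
      (fun q hq _ _ => hq.1.1)).1 (fun x hx => let ⟨q, hq, hxq⟩ := hcon x hx; Set.mem_iUnion₂.2 ⟨q, hq, hxq⟩)
    have : q = s.asIdeal := le_antisymm (hq.2 ⟨s.isPrime, bot_le⟩ hle) hle
    exact hsnm (this ▸ hq)
  have hVt : (PrimeSpectrum.zeroLocus {t}).Finite := by
    have := finite_image (h := (id : PrimeSpectrum R → PrimeSpectrum R)) continuous_id
      (PrimeSpectrum.isClosed_zeroLocus {t})
      (fun q hq => hclosedpt q fun hmin => ht _ hmin (hq (Set.mem_singleton t)))
    simpa using this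
  let bad : Set (PrimeSpectrum R) := (h '' (C \ Set.range i) ∪ PrimeSpectrum.zeroLocus {t}) \ {s}
  have hbadc : IsClosed bad := by
    have he : bad = ⋃ q ∈ bad, ({q} : Set (PrimeSpectrum R)) := (Set.biUnion_of_singleton bad).symm
    rw [he]
    refine ((hB.union hVt).subset Set.sdiff_subset).isClosed_biUnion fun q hq => hclosedpt q ?_
    rcases hq.1 with ⟨w, hw, rfl⟩ | hq'
    · exact hnm w hw
    · exact fun hmin => ht _ hmin (hq' (Set.mem_singleton t))
  let A : Set T := Set.range i ∩ h ⁻¹' {s}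
  have hA : IsClosed A := isClosed_of_closure_subset fun w hw => by
    obtain ⟨x, hx, hxw⟩ := exists_specializes U.2 ((hclosedpt s hsnm).preimage h.continuous) hw
    have hws : h w = s := ((hclosedpt s hsnm).preimage h.continuous).stableUnderSpecialization hxw hx.2
    exact ⟨key x w hx.1 hxw (hx.2.trans hws.symm), hws⟩
  obtain ⟨W, hW, hzW, hWsub⟩ := exists_isAffineOpen_mem_and_subset
    (U := (⟨(A ∪ h ⁻¹' bad)ᶜ, (hA.union (hbadc.preimage h.continuous)).isOpen_compl⟩ : T.Opens)) (x := z)
    (fun hz => hz.elim (fun hz => hzU hz.1) fun hz => hz.2 rfl)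
  refine ⟨W, hzW, hW, ?_⟩
  let τ : Γ(T, W) := T.presheaf.map (homOfLE le_top).op (h.appTop ((Scheme.ΓSpecIso (CommRingCat.of R)).inv t))
  have hτ : ∀ w : T, w ∈ T.basicOpen τ ↔ w ∈ W ∧ t ∉ (h w : PrimeSpectrum R).asIdeal := by
    intro w
    rw [show T.basicOpen τ = W ⊓ T.basicOpen (h.appTop ((Scheme.ΓSpecIso (CommRingCat.of R)).inv t)) from
      Scheme.basicOpen_res _ _ _, ← Scheme.preimage_basicOpen_top, basicOpen_eq_of_affine]
    rfl
  refine isAffineOpen_of_clopen (hW.basicOpen τ) ?_ C isClosed_closure ?_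
  · intro w hw
    refine (hτ w).2 ⟨hw.2, fun htw => ?_⟩
    have hq : (h w : PrimeSpectrum R) ∈ PrimeSpectrum.zeroLocus {t} := Set.singleton_subset_iff.2 htw
    by_cases hws : h w = s
    · exact hWsub hw.2 (Or.inl ⟨hw.1, hws⟩)
    · exact hWsub hw.2 (Or.inr ⟨Or.inr hq, hws⟩)
  · intro w hw
    obtain ⟨hwW, htw⟩ := (hτ w).1 hw
    refine ⟨fun hwU => subset_closure hwU.1, fun hwC => ⟨?_, hwW⟩⟩
    by_contra hwU
    have hne : h w ≠ s := fun e => htw (by rw [e]; exact hts)
    exact hWsub hwW (Or.inr ⟨Or.inl ⟨w, ⟨hwC, hwU⟩, rfl⟩, hne⟩)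

/-- A separated quasi-finite morphism of schemes of finite type over a noetherian scheme of dimension at most one
is affine as soon as it is universally closed on every fibre over the base. -/
theorem isAffineHom_of_universallyClosed_fibres {S X Y : Scheme.{u}} [IsLocallyNoetherian S]
    (hS : topologicalKrullDim S ≤ 1) (g : Y ⟶ S) [LocallyOfFiniteType g] (f : X ⟶ Y)
    [IsSeparated f] [QuasiCompact f] [LocallyOfFiniteType f] [LocallyQuasiFinite f]
    (hfib : ∀ s : S, UniversallyClosed (pullback.snd f (g.fiberι s))) : IsAffineHom f := by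
  refine isAffineHom_of_forall_exists_isAffineOpen f fun y => ?_
  obtain ⟨V, hV, hyV, -⟩ := exists_isAffineOpen_mem_and_subset (U := (⊤ : S.Opens)) (x := g y) trivial
  obtain ⟨W, hW, hyW, hWV⟩ := exists_isAffineOpen_mem_and_subset (U := g ⁻¹ᵁ V) (x := y) hyV
  refine ⟨W, hyW, hW, ?_⟩
  haveI : IsAffine V.toScheme := hV
  haveI : IsAffine W.toScheme := hW
  haveI : IsNoetherianRing Γ(S, V) := IsLocallyNoetherian.component_noetherian (X := S) ⟨V, hV⟩
  haveI : Ring.KrullDimLE 1 Γ(S, V) := by
    rw [Ring.krullDimLE_iff, ← PrimeSpectrum.topologicalKrullDim_eq_ringKrullDim]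
    exact (hV.fromSpec.isOpenEmbedding.isInducing.topologicalKrullDim_le).trans hS
  let g' : W.toScheme ⟶ Spec Γ(S, V) := g.resLE V W hWV ≫ hV.isoSpec.hom
  have hg' : g' ≫ hV.fromSpec = W.ι ≫ g := by
    simp only [g', Category.assoc, IsAffineOpen.isoSpec_hom_fromSpec, Scheme.Hom.resLE_comp_ι]
  haveI : LocallyOfFiniteType g' := by
    have : LocallyOfFiniteType (g' ≫ hV.fromSpec) := by rw [hg']; infer_instance
    exact locallyOfFiniteType_of_comp g' hV.fromSpec
  refine @isAffine_of_universallyClosed_fibres Γ(S, V) _ _ _ (f ⁻¹ᵁ W).toScheme W.toScheme _ g' _ (f ∣_ W)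
    (IsZariskiLocalAtTarget.restrict (P := @IsSeparated) inferInstance W)
    (IsZariskiLocalAtTarget.restrict (P := @QuasiCompact) inferInstance W)
    (IsZariskiLocalAtTarget.restrict (P := @LocallyOfFiniteType) inferInstance W)
    (IsZariskiLocalAtTarget.restrict (P := @LocallyQuasiFinite) inferInstance W) fun q => ?_
  let j := pullback.fst W.ι (g.fiberι (hV.fromSpec q))
  refine ⟨_, j, inferInstance, ?_, ?_⟩
  · rw [Scheme.Pullback.range_fst, Scheme.Hom.range_fiberι]
    ext w
    show g (W.ι w) = hV.fromSpec q ↔ g' w = q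
    rw [← Scheme.Hom.comp_apply, ← hg', Scheme.Hom.comp_apply]
    exact hV.fromSpec.isOpenEmbedding.injective.eq_iff
  · haveI := hfib (hV.fromSpec q)
    have h1 : IsPullback (pullback.fst (f ∣_ W) j) (pullback.snd (f ∣_ W) j) (f ∣_ W) j :=
      IsPullback.of_hasPullback _ _
    have h2 := h1.paste_horiz (isPullback_morphismRestrict f W).flip
    rw [show j ≫ W.ι = pullback.snd W.ι (g.fiberι (hV.fromSpec q)) ≫ g.fiberι (hV.fromSpec q) from
      pullback.condition] at h2
    exact MorphismProperty.of_isPullback (P := @UniversallyClosed)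
      (IsPullback.of_right' h2 (IsPullback.of_hasPullback f (g.fiberι (hV.fromSpec q)))) inferInstance

end Groth.Agent.DynX.QFAffine
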