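import Groth.Prelude.Def_RedSub
import Mathlib.AlgebraicGeometry.Sites.Fpqc
import Mathlib.CategoryTheory.Limits.Constructions.Over.Connected

/-! For subgroups `H ⊆ H' ⊆ G` with quotients: `G ×_{G/H'} G/H = G × H'/H`. -/

set_option backward.isDefEq.respectTransparency false
set_option backward.isDefEq.respectTransparency.types false

universe u

open CategoryTheory Limits MonoidalCategory CartesianMonoidalCategory MonObj AlgebraicGeometry

namespace Groth.Agent.DynX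

variable {S : Scheme.{u}}

/-- A flat surjective morphism locally of finite presentation. -/
def IsFppf {T' T : Over S} (c : T' ⟶ T) : Prop :=
  Surjective c.left ∧ Flat c.left ∧ LocallyOfFinitePresentation c.left

theorem IsFppf.epi {T' T : Over S} {c : T' ⟶ T} (hc : IsFppf c) : Epi c := by
  obtain ⟨_, _, _⟩ := hc
  have : Epi c.left := inferInstance
  exact Over.epi_of_epi_left _

theorem IsFppf.exists_desc {T' T B : Over S} {c : T' ⟶ T} (hc : IsFppf c) (ψ : T' ⟶ B)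
    (h : ∀ (W : Over S) (g₁ g₂ : W ⟶ T'), g₁ ≫ c = g₂ ≫ c → g₁ ≫ ψ = g₂ ≫ ψ) :
    ∃ e : T ⟶ B, c ≫ e = ψ := by
  obtain ⟨_, _, _⟩ := hc
  let l := EffectiveEpi.desc c.left ψ.left fun {Z} g₁ g₂ e => by
    have e' : g₂ ≫ T'.hom = g₁ ≫ T'.hom := by
      rw [← Over.w c, ← Category.assoc, ← e, Category.assoc]
    exact congrArg CommaMorphism.left (h (Over.mk (g₁ ≫ T'.hom)) (Over.homMk g₁ rfl) (Over.homMk g₂ e')
      (Over.OverMorphism.ext e))
  have hfac : c.left ≫ l = ψ.left := EffectiveEpi.fac _ _ _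
  exact ⟨Over.homMk l (by rw [← cancel_epi c.left, reassoc_of% hfac, Over.w ψ, Over.w c]),
    Over.OverMorphism.ext hfac⟩

theorem IsFppf.exists_pullback {T' T U : Over S} {c : T' ⟶ T} (hc : IsFppf c) (f : U ⟶ T) :
    ∃ (U' : Over S) (d : U' ⟶ U) (f' : U' ⟶ T'), IsFppf d ∧ d ≫ f = f' ≫ c := by
  obtain ⟨_, _, _⟩ := hc
  refine ⟨Over.mk (pullback.fst f.left c.left ≫ U.hom), Over.homMk (pullback.fst f.left c.left) rfl,
    Over.homMk (pullback.snd f.left c.left) ?_, ?_, Over.OverMorphism.ext pullback.condition⟩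
  · show pullback.snd _ _ ≫ T'.hom = pullback.fst _ _ ≫ U.hom
    rw [← Over.w c, ← pullback.condition_assoc, Over.w f]
  · exact ⟨inferInstanceAs (Surjective (pullback.fst f.left c.left)),
      inferInstanceAs (Flat (pullback.fst f.left c.left)),
      inferInstanceAs (LocallyOfFinitePresentation (pullback.fst f.left c.left))⟩

theorem IsFppf.comp {T'' T' T : Over S} {d : T'' ⟶ T'} {c : T' ⟶ T} (hd : IsFppf d) (hc : IsFppf c) :
    IsFppf (d ≫ c) := by
  obtain ⟨_, _, _⟩ := hd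
  obtain ⟨_, _, _⟩ := hc
  exact ⟨inferInstanceAs (Surjective (d.left ≫ c.left)), inferInstanceAs (Flat (d.left ≫ c.left)),
    inferInstanceAs (LocallyOfFinitePresentation (d.left ≫ c.left))⟩

theorem IsFppf.whiskerLeft {T' T : Over S} {c : T' ⟶ T} (hc : IsFppf c) (P : Over S) :
    IsFppf (P ◁ c) := by
  have sq : IsPullback (snd P T').left (P ◁ c).left c.left (snd P T).left := by
    refine IsPullback.map (Over.forget S) (f := snd P T') (g := P ◁ c) (h := c) (i := snd P T) ?_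
    exact IsPullback.of_isLimit' ⟨by simp⟩ (PullbackCone.IsLimit.mk _
      (fun s => lift (s.snd ≫ fst P T) s.fst)
      (fun s => by simp)
      (fun s => by
        apply CartesianMonoidalCategory.hom_ext
        · simp
        · simpa using s.condition)
      (fun s m h1 h2 => by
        apply CartesianMonoidalCategory.hom_ext
        · rw [lift_fst, ← h2]; simp
        · simpa using h1))
  exact ⟨MorphismProperty.of_isPullback sq hc.1, MorphismProperty.of_isPullback sq hc.2.1,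
    MorphismProperty.of_isPullback sq hc.2.2⟩

section

variable {G H Q : Over S} [GrpObj G] [GrpObj H] {i : H ⟶ G} {q : G ⟶ Q}

theorem isQuotient_isFppf (hq : RedSub.IsQuotient i q) : IsFppf q := ⟨hq.1, hq.2.1, hq.2.2.1⟩

theorem isQuotient_mul_comp (hq : RedSub.IsQuotient i q) {W : Over S} (g : W ⟶ G) (h : W ⟶ H) :
    (g * (h ≫ i)) ≫ q = g ≫ q := by
  have := congrArg (lift g h ≫ ·) hq.2.2.2.w
  simp only [← Category.assoc, lift_fst, lift_whiskerLeft] at this
  rw [Hom.mul_def]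
  exact this.symm

theorem exists_of_isQuotient (hq : RedSub.IsQuotient i q) {W : Over S} {g₁ g₂ : W ⟶ G} (h : g₁ ≫ q = g₂ ≫ q) :
    ∃ n : W ⟶ H, g₁ * (n ≫ i) = g₂ := by
  let l := hq.2.2.2.lift g₁ g₂ h
  have h1 : l ≫ fst G H = g₁ := hq.2.2.2.lift_fst _ _ _
  have h2 : l ≫ (G ◁ i) ≫ μ[G] = g₂ := hq.2.2.2.lift_snd _ _ _
  refine ⟨l ≫ snd G H, ?_⟩
  rw [← h2, ← h1, Hom.mul_def, ← lift_whiskerLeft, ← comp_lift, lift_fst_snd, Category.comp_id, Category.assoc]

end

variable {G H H' X X' Y : Over S} [GrpObj G] [GrpObj H] [GrpObj H'] {iH : H ⟶ G} {iH' : H' ⟶ G}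
  [IsMonHom iH'] {e : H ⟶ H'} {q : G ⟶ X} {q' : G ⟶ X'} {f : X ⟶ X'} {r : H' ⟶ Y}

/-- `G ×_{G/H'} G/H = G × H'/H`. -/
theorem exists_isPullback_quot [Mono iH'] (he : e ≫ iH' = iH) (hq : RedSub.IsQuotient iH q)
    (hq' : RedSub.IsQuotient iH' q') (hf : q ≫ f = q') (hr : RedSub.IsQuotient e r) :
    ∃ m : G ⊗ Y ⟶ X, IsPullback (fst G Y) m q' f := by
  have same : ∀ {W : Over S} (a : W ⟶ G) {h₁ h₂ : W ⟶ H'},
      h₁ ≫ r = h₂ ≫ r → (a * (h₁ ≫ iH')) ≫ q = (a * (h₂ ≫ iH')) ≫ q := by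
    intro W a h₁ h₂ h
    obtain ⟨n, rfl⟩ := exists_of_isQuotient hr h
    rw [MonObj.mul_comp _ _ iH', Category.assoc, he, ← _root_.mul_assoc, isQuotient_mul_comp hq]
  have same' : ∀ {W : Over S} (a : W ⟶ G) {h₁ h₂ : W ⟶ H'},
      (a * (h₁ ≫ iH')) ≫ q = (a * (h₂ ≫ iH')) ≫ q → h₁ ≫ r = h₂ ≫ r := by
    intro W a h₁ h₂ h
    obtain ⟨n, hn⟩ := exists_of_isQuotient hq h
    rw [_root_.mul_assoc, mul_left_cancel_iff, ← he, ← Category.assoc, ← MonObj.mul_comp, cancel_mono] at hn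
    rw [← hn, isQuotient_mul_comp hr]
  obtain ⟨m, hm⟩ := ((isQuotient_isFppf hr).whiskerLeft G).exists_desc ((G ◁ iH') ≫ μ[G] ≫ q) fun W g₁ g₂ h => by
    have h1 : g₁ ≫ fst G H' = g₂ ≫ fst G H' := by simpa using congrArg (· ≫ fst G Y) h
    have h2 : (g₁ ≫ snd G H') ≫ r = (g₂ ≫ snd G H') ≫ r := by simpa using congrArg (· ≫ snd G Y) h
    have key : ∀ g : W ⟶ G ⊗ H', g ≫ (G ◁ iH') ≫ μ[G] = (g ≫ fst G H') * ((g ≫ snd G H') ≫ iH') := fun g => by
      rw [Hom.mul_def, ← lift_whiskerLeft, ← comp_lift, lift_fst_snd, Category.comp_id, Category.assoc]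
    have := same (g₁ ≫ fst G H') h2
    rw [← key, h1, ← key] at this
    simpa using this
  have hpt : ∀ {W : Over S} (a : W ⟶ G) (h' : W ⟶ H'), lift a (h' ≫ r) ≫ m = (a * (h' ≫ iH')) ≫ q := by
    intro W a h'
    rw [← lift_whiskerLeft a h' r, Category.assoc, hm, ← Category.assoc, lift_whiskerLeft, ← Category.assoc,
      ← Hom.mul_def]
  have comm : fst G Y ≫ q' = m ≫ f := by
    have := ((isQuotient_isFppf hr).whiskerLeft G).epi
    rw [← cancel_epi (G ◁ r), reassoc_of% hm, whiskerLeft_fst_assoc, hf]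
    simpa using hq'.2.2.2.w
  have inj : ∀ {W : Over S} (a : W ⟶ G) (y₁ y₂ : W ⟶ Y), lift a y₁ ≫ m = lift a y₂ ≫ m → y₁ = y₂ := by
    intro W a y₁ y₂ h
    obtain ⟨W₁, d₁, h₁, hd₁, e₁⟩ := (isQuotient_isFppf hr).exists_pullback y₁
    obtain ⟨W₂, d₂, h₂, hd₂, e₂⟩ := (isQuotient_isFppf hr).exists_pullback (d₁ ≫ y₂)
    have := (hd₂.comp hd₁).epi
    rw [← cancel_epi (d₂ ≫ d₁), Category.assoc, Category.assoc, e₁, e₂, ← Category.assoc d₂ h₁]
    apply same' (d₂ ≫ d₁ ≫ a)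
    rw [← hpt, ← hpt, Category.assoc, ← e₁, ← e₂, ← comp_lift, ← comp_lift, ← comp_lift, ← comp_lift,
      Category.assoc, Category.assoc, Category.assoc, Category.assoc, h]
  have surj : ∀ {W : Over S} (a : W ⟶ G) (b : W ⟶ X), a ≫ q' = b ≫ f → ∃ y : W ⟶ Y, lift a y ≫ m = b := by
    intro W a b h
    obtain ⟨W', d, g', hd, e'⟩ := (isQuotient_isFppf hq).exists_pullback b
    obtain ⟨h', hh'⟩ := exists_of_isQuotient hq' (show (d ≫ a) ≫ q' = g' ≫ q' by
      rw [Category.assoc, h, reassoc_of% e', hf])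
    obtain ⟨y, hy⟩ := hd.exists_desc (h' ≫ r) fun V v₁ v₂ hv => by
      rw [← Category.assoc, ← Category.assoc]
      apply same' (v₁ ≫ d ≫ a)
      have h1 : ∀ v : V ⟶ W', (v ≫ d ≫ a) * ((v ≫ h') ≫ iH') = v ≫ g' := fun v => by
        rw [Category.assoc, ← MonObj.comp_mul, hh']
      rw [h1, reassoc_of% hv, h1, Category.assoc, Category.assoc, ← e', reassoc_of% hv]
    refine ⟨y, ?_⟩
    have := hd.epi
    rw [← cancel_epi d, ← Category.assoc, comp_lift, hy, hpt, hh', e']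
  refine ⟨m, IsPullback.of_isLimit' ⟨comm⟩ (PullbackCone.IsLimit.mk _
    (fun s => lift s.fst (surj s.fst s.snd s.condition).choose)
    (fun s => by simp) (fun s => (surj s.fst s.snd s.condition).choose_spec) (fun s l h1 h2 => ?_))⟩
  have hl : l = lift s.fst (l ≫ snd G Y) := by
    apply CartesianMonoidalCategory.hom_ext <;> simp [h1]
  rw [hl] at h2 ⊢
  congr 1
  exact inj s.fst _ _ (h2.trans (surj s.fst s.snd s.condition).choose_spec.symm)

end Groth.Agent.DynX
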