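import Groth.Prelude.Def_AGF
import Mathlib.LinearAlgebra.RootSystem.Finite.Lemmas
import Mathlib.LinearAlgebra.RootSystem.Reduced

/-! Exponents of an isogeny of root data with an indecomposable source. -/

set_option linter.style.haveILetI false
set_option linter.unusedSectionVars false

open Set

namespace Groth.Agent.DynX.RootExp

variable {idx idx' M M' : Type} [Fintype idx] [Fintype idx'] [AddCommGroup M] [AddCommGroup M']
  [Module.Free ℤ M] [Module.Free ℤ M'] [Module.Finite ℤ M] [Module.Finite ℤ M']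

theorem pairing_eq_coroot {Q : RootPairing idx ℤ M (Module.Dual ℤ M)}
    (hQ : Q.toLinearMap = Module.Dual.eval ℤ M) (i j : idx) : Q.pairing i j = Q.coroot j (Q.root i) := by
  rw [← Q.root_coroot_eq_pairing, hQ]
  rfl

theorem pairingIn_eq {Q : RootPairing idx ℤ M (Module.Dual ℤ M)} [Q.IsCrystallographic] (i j : idx) :
    Q.pairingIn ℤ i j = Q.pairing i j := by
  simpa using Q.algebraMap_pairingIn ℤ i j

variable {P : RootPairing idx ℤ M (Module.Dual ℤ M)} {P' : RootPairing idx' ℤ M' (Module.Dual ℤ M')} {p : ℕ}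
  (hP : P.toLinearMap = Module.Dual.eval ℤ M) (hP' : P'.toLinearMap = Module.Dual.eval ℤ M')
  (ρ : AGF.RootIsog P P' p)

theorem q_pos (hp : p.Prime) (a : idx) : 0 < ρ.q a := by
  obtain ⟨m, hm⟩ := ρ.q_pow a
  rw [hm]; exact pow_pos hp.pos m

include hP hP' in
theorem q_mul_pairing (a b : idx) :
    (ρ.q a : ℤ) * P.pairing a b = ρ.q b * P'.pairing (ρ.e a) (ρ.e b) := by
  have h := LinearMap.congr_fun (ρ.coroot b) (P'.root (ρ.e a))
  rw [LinearMap.comp_apply, ρ.root, map_zsmul, LinearMap.smul_apply, smul_eq_mul, smul_eq_mul,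
    ← pairing_eq_coroot hP, ← pairing_eq_coroot hP'] at h
  exact h

include hP hP' in
theorem q_reflectionPerm (hp : p.Prime) [P.IsReduced] (b a : idx) : ρ.q (P.reflectionPerm b a) = ρ.q a := by
  let c := ρ.e.symm (P'.reflectionPerm (ρ.e b) (ρ.e a))
  let d := P.reflectionPerm b a
  have hd : P.root d = P.root a - P.pairing a b • P.root b := by
    rw [P.root_reflectionPerm, P.reflection_apply_root]
  have h1 : (ρ.q c : ℤ) • P.root c = (ρ.q a : ℤ) • P.root d := by
    rw [← ρ.root c, show ρ.e c = P'.reflectionPerm (ρ.e b) (ρ.e a) from ρ.e.apply_symm_apply _,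
      P'.root_reflectionPerm, P'.reflection_apply_root, map_sub, map_zsmul, ρ.root, ρ.root, hd, smul_sub,
      smul_smul, smul_smul, q_mul_pairing hP hP' ρ a b, mul_comm]
  have hqa := q_pos ρ hp a
  have hqc := q_pos ρ hp c
  have hne : P.root d ≠ 0 := P.ne_zero d
  haveI : IsAddTorsionFree M := .of_isTorsionFree ℤ M
  have hcd : P.root c = P.root d := by
    rcases RootPairing.IsReduced.eq_or_eq_neg (P := P) c d (fun hli => by
      have := LinearIndependent.pair_iff.1 hli (ρ.q c) (-(ρ.q a : ℤ)) (by rw [neg_smul, h1, add_neg_cancel])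
      exact hqc.ne' (by exact_mod_cast this.1)) with h | h
    · exact h
    · exfalso
      rw [h, smul_neg, ← neg_smul] at h1
      have h3 : ((ρ.q a : ℤ) + ρ.q c) • P.root d = 0 := by
        rw [add_smul, ← h1, neg_smul, neg_add_cancel]
      rcases smul_eq_zero.1 h3 with h4 | h4
      · omega
      · exact hne h4
  rw [hcd] at h1
  have h5 : (ρ.q c : ℤ) = ρ.q a := by
    have : ((ρ.q c : ℤ) - ρ.q a) • P.root d = 0 := by rw [sub_smul, h1, sub_self]
    rcases smul_eq_zero.1 this with h4 | h4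
    · omega
    · exact absurd h4 hne
  show ρ.q d = ρ.q a
  rw [← P.root.injective hcd]
  exact_mod_cast h5

/-- Equivalence under the reflections. -/
def Orb (a x : idx) : Prop := Relation.ReflTransGen (fun u v => ∃ b, v = P.reflectionPerm b u) a x

include hP in
theorem exists_orb_not_orth (hind : ∀ s : Set idx, s.Nonempty → (∀ a ∈ s, ∀ c ∉ s, P.pairing a c = 0) → s = univ)
    (a c : idx) : ∃ x, Orb (P := P) a x ∧ P.pairing x c ≠ 0 := by
  let s : Set idx := {c | ∃ x, Orb (P := P) a x ∧ P.pairing x c ≠ 0}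
  have hs : s = univ := hind s ⟨a, a, Relation.ReflTransGen.refl, by rw [P.pairing_same]; norm_num⟩
    fun d ⟨x, hx, hxd⟩ c hc => by
      by_contra hdc
      have hxc : P.pairing x c = 0 := by_contra fun h => hc ⟨x, hx, h⟩
      refine hc ⟨P.reflectionPerm d x, hx.tail ⟨d, rfl⟩, ?_⟩
      rw [pairing_eq_coroot hP, P.root_reflectionPerm, P.reflection_apply_root, map_sub, map_zsmul,
        ← pairing_eq_coroot hP, ← pairing_eq_coroot hP, hxc, zero_sub, neg_ne_zero]
      exact mul_ne_zero hxd hdc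
  have hc : c ∈ s := by rw [hs]; exact mem_univ c
  exact hc

theorem orb_props {a x : idx} (h : Orb (P := P) a x) :
    ∃ π : idx → idx, π a = x ∧ ∀ u v, P.pairing (π u) (π v) = P.pairing u v := by
  induction h with
  | refl => exact ⟨id, rfl, fun _ _ => rfl⟩
  | tail _ hst ih =>
    obtain ⟨π, hπ, hp⟩ := ih
    obtain ⟨b, rfl⟩ := hst
    refine ⟨fun u => P.reflectionPerm b (π u), congrArg (P.reflectionPerm b) hπ, fun u v => ?_⟩
    rw [P.pairing_reflectionPerm, P.reflectionPerm_self, hp]

theorem orb_rootLength [P.IsCrystallographic] (B : P.RootPositiveForm ℤ) {a x : idx} (h : Orb (P := P) a x) :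
    B.rootLength x = B.rootLength a := by
  have hlen : ∀ i, B.rootLength i = B.form (P.root i) (P.root i) := fun i => by
    simpa using B.algebraMap_rootLength i
  induction h with
  | refl => rfl
  | tail _ hst ih =>
    obtain ⟨d, rfl⟩ := hst
    rw [← ih, hlen, hlen, P.root_reflectionPerm]
    exact B.toInvariantForm.apply_reflection_reflection d _ _

include hP hP' in
theorem orb_q (hp : p.Prime) [P.IsReduced] {a x : idx} (h : Orb (P := P) a x) : ρ.q x = ρ.q a := by
  induction h with
  | refl => rfl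
  | tail _ hst ih =>
    obtain ⟨b, rfl⟩ := hst
    rw [q_reflectionPerm hP hP' ρ hp, ih]

include hP hP' in
/-- In an indecomposable root system, if some exponent is one then the long exponents are one. -/
theorem q_eq_one_of_long (hp : p.Prime) [P.IsReduced] [P'.IsReduced]
    (hind : ∀ s : Set idx, s.Nonempty → (∀ a ∈ s, ∀ c ∉ s, P.pairing a c = 0) → s = univ)
    {a b c : idx} (hab : P.pairing a b = -(p : ℤ)) (hba : P.pairing b a = -1) (hc : ρ.q c = 1) : ρ.q a = 1 := by
  haveI : P.IsCrystallographic := ⟨fun i j => ⟨P.pairing i j, rfl⟩⟩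
  haveI : P'.IsCrystallographic := ⟨fun i j => ⟨P'.pairing i j, rfl⟩⟩
  obtain ⟨x, hx, hxc⟩ := exists_orb_not_orth hP hind a c
  obtain ⟨π, hπa, hπ⟩ := orb_props hx
  rw [← orb_q hP hP' ρ hp hx]
  have hxy : P.pairing x (π b) = -(p : ℤ) := by rw [← hπa, hπ, hab]
  have hyx : P.pairing (π b) x = -1 := by rw [← hπa, hπ, hba]
  have h1 := q_mul_pairing hP hP' ρ x c
  have h2 := q_mul_pairing hP hP' ρ c x
  rw [hc, Nat.cast_one, one_mul] at h1 h2
  obtain ⟨m, hm⟩ := ρ.q_pow x
  rcases Nat.eq_zero_or_pos m with rfl | hm0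
  · simpa using hm
  exfalso
  have hdvd : (p : ℤ) ∣ P.pairing c x := by
    rw [h2, hm]
    exact (Int.natCast_dvd_natCast.2 (dvd_pow_self p hm0.ne')).mul_right _
  have hp2 : (2 : ℤ) ≤ p := by exact_mod_cast hp.two_le
  have hq2 : (2 : ℤ) ≤ ρ.q x := by
    rw [hm]
    exact_mod_cast hp.two_le.trans (Nat.le_self_pow hm0.ne' p)
  have hs := P.pairingIn_pairingIn_mem_set_of_isCrystal_of_isRed x c
  have hs' := P'.pairingIn_pairingIn_mem_set_of_isCrystal_of_isRed (ρ.e x) (ρ.e c)
  simp only [pairingIn_eq, mem_insert_iff, mem_singleton_iff, Prod.mk.injEq] at hs hs'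
  let B := P.posRootForm ℤ
  have hB1 := B.pairingIn_mul_eq_pairingIn_mul_swap x (π b)
  have hB2 := B.pairingIn_mul_eq_pairingIn_mul_swap x c
  obtain ⟨z, hz, hzc⟩ := exists_orb_not_orth hP hind (π b) c
  have hzl : B.rootLength z = B.rootLength (π b) := orb_rootLength B hz
  have hB3 := B.pairingIn_mul_eq_pairingIn_mul_swap z c
  simp only [pairingIn_eq] at hB1 hB2 hB3
  have hs3 := P.pairingIn_pairingIn_mem_set_of_isCrystal_of_isRed z c
  simp only [pairingIn_eq, mem_insert_iff, mem_singleton_iff, Prod.mk.injEq] at hs3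
  have hpx := B.rootLength_pos x
  have hpz := B.rootLength_pos z
  have hpc := B.rootLength_pos c
  rw [hxy, hyx] at hB1
  rw [hzl] at hB3
  rw [hzl] at hpz
  -- the exponent is small
  have hq3 : (ρ.q x : ℤ) ≤ 3 := by
    have hu' : |P'.pairing (ρ.e x) (ρ.e c)| ≤ 3 := by
      rcases hs' with h | h | h | h | h | h | h | h | h | h | h | h | h <;> simp [h.1]
    rw [← h1, abs_mul, abs_of_nonneg (by omega : (0 : ℤ) ≤ ρ.q x)] at hu'
    exact le_trans (le_mul_of_one_le_right (by omega) (Int.one_le_abs hxc)) hu'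
  have hm1 : m = 1 := by
    by_contra hne
    have : p ^ 2 ≤ p ^ m := Nat.pow_le_pow_right hp.pos (by omega)
    have hq3' : ρ.q x ≤ 3 := by exact_mod_cast hq3
    nlinarith [hp.two_le]
  rw [hm1, pow_one] at hm
  have hp3 : p ≤ 3 := by rw [← hm]; exact_mod_cast hq3
  rw [hm] at h1 h2
  interval_cases p
  all_goals
    norm_num at h1 h2 hB1 hq3
    rcases hs with h | h | h | h | h | h | h | h | h | h | h | h | h <;>
      first
        | omega
        | (rw [h.1, h.2] at hB2
           rcases hs3 with g | g | g | g | g | g | g | g | g | g | g | g | g <;>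
             (rw [g.1, g.2] at hB3; omega))

end Groth.Agent.DynX.RootExp
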