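import Groth.Agent.RedCell22.HomExt
import Groth.Agent.RedCell22.CellNorm
import Groth.Agent.RedCell22.Independent

/-!
# The centre of a split reductive group
-/

set_option autoImplicit false
set_option linter.unusedSectionVars false
set_option linter.style.haveILetI false

universe u

open CategoryTheory CategoryTheory.Limits AlgebraicGeometry MonoidalCategory CartesianMonoidalCategory
open MonObj GrpObj
open scoped LaurentPolynomial

noncomputable section

namespace Groth.Agent.DynX.SplitCentre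

open RedCell22

variable {S : Scheme.{u}} {A : Type u} [CommRing A] {b : Spec (CommRingCat.of A) ⟶ S}
variable {B : Type u} [CommRing B] [Algebra A B]
variable {G : Over S} [GrpObj G] {D : Red.SplitRed G}

theorem gmUnit_injective : Function.Injective (gmUnit : (tb b B ⟶ Red.Gm S) → Bˣ) := fun t t' h => by
  rw [← GmPts.ptOfUnit_unitOfPt t, ← GmPts.ptOfUnit_unitOfPt t']
  congr 1
  exact Units.ext (gs.injective (congrArg Units.val h :))

theorem gmUnit_one : gmUnit (1 : tb b B ⟶ Red.Gm S) = 1 :=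
  map_one (MonoidHom.mk' gmUnit gmUnit_mul)

/-- Products of two points of the cell cover the group. -/
theorem exists_mul_cover {n m : ℕ} {f : D.M →+ ℤ} {l : Fin n → D.idx} {l' : Fin m → D.idx}
    (hl : PosList D (-f) l) (hl' : PosList D f l') (hreg : ∀ a, f (D.P.root a) ≠ 0) :
    Flat (((fst (CellSrc D n m) (CellSrc D n m) ≫ RedSub.cellMap D l l') *
      (snd _ _ ≫ RedSub.cellMap D l l')).left) ∧
    Surjective (((fst (CellSrc D n m) (CellSrc D n m) ≫ RedSub.cellMap D l l') *
      (snd _ _ ≫ RedSub.cellMap D l l')).left) := by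
  haveI := isOpenImmersion_cell hl hl' hreg
  haveI : Smooth G.hom := D.reductive.2.1
  let cm := RedSub.cellMap D l l'
  let M : CellSrc D n m ⊗ CellSrc D n m ⟶ G := (cm ⊗ₘ cm) ≫ μ[G]
  have hM : M = (fst _ _ ≫ cm) * (snd _ _ ≫ cm) := by rw [Hom.mul_def, lift_fst_comp_snd_comp]
  refine ⟨?_, ?_⟩
  · rw [← hM]
    haveI : Flat μ[G].left := by
      rw [GrpSchLib.mul_eq_id_whiskerRight]
      exact GrpSchLib.flat_whiskerRight_mul (𝟙 G)
    haveI : IsOpenImmersion (cm ⊗ₘ cm).left := by
      have e : (cm ⊗ₘ cm).left = pullback.map (CellSrc D n m).hom (CellSrc D n m).hom G.hom G.hom cm.left cm.left (𝟙 _)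
          (by simp) (by simp) := by
        apply pullback.hom_ext
        · rw [pullback.lift_fst]
          exact congrArg (fun r : _ ⟶ G => r.left) (tensorHom_fst cm cm)
        · rw [pullback.lift_snd]
          exact congrArg (fun r : _ ⟶ G => r.left) (tensorHom_snd cm cm)
      rw [e]
      infer_instance
    show Flat ((cm ⊗ₘ cm).left ≫ μ[G].left)
    infer_instance
  · refine ⟨fun x => ?_⟩
    let K := AlgebraicClosure (G.left.residueField x)
    let pt : Spec (CommRingCat.of K) ⟶ G.left :=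
      Spec.map (CommRingCat.ofHom (algebraMap (G.left.residueField x) K)) ≫ G.left.fromSpecResidueField x
    obtain ⟨p, q, hpq⟩ := exists_mul_cell hl hl' hreg (testMap pt)
    refine ⟨(lift p q).left (IsLocalRing.closedPoint K), ?_⟩
    have e : lift p q ≫ ((fst _ _ ≫ cm) * (snd _ _ ≫ cm)) = testMap pt := by
      rw [MonObj.comp_mul, ← Category.assoc, lift_fst, ← Category.assoc, lift_snd, ← hpq]
    show (lift p q ≫ ((fst _ _ ≫ cm) * (snd _ _ ≫ cm))).left (IsLocalRing.closedPoint K) = x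
    rw [e]
    show (Spec.map _ ≫ G.left.fromSpecResidueField x) _ = x
    exact Scheme.fromSpecResidueField_apply x _

/-- A point commuting with the points of the cell over every extension commutes with all points. -/
theorem comm_of_cell {X : Over S} (g : X ⟶ G)
    (h : ∀ (A : Type u) [CommRing A] (b : Spec (CommRingCat.of A) ⟶ S) (x : tb b A ⟶ X),
      (∀ (a : D.idx) (c : A), Commute (x ≫ g) (ua D a c)) ∧ ∀ t : tb b A ⟶ D.T, Commute (x ≫ g) (tG D t))
    {X' : Over S} (x : X' ⟶ X) (k : X' ⟶ G) : (x ≫ g) * k = k * (x ≫ g) := by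
  haveI : IsAffineHom G.hom := isAffineHom_of_split D
  obtain ⟨f, hreg, -⟩ := exists_separating D
  obtain ⟨n, l, hl⟩ := exists_posList D (-f)
  obtain ⟨m, l', hl'⟩ := exists_posList D f
  let Q := CellSrc D n m
  let cm := RedSub.cellMap D l l'
  let M : Q ⊗ Q ⟶ G := (fst _ _ ≫ cm) * (snd _ _ ≫ cm)
  obtain ⟨hF, hS⟩ := exists_mul_cover hl hl' hreg
  haveI : Flat M.left := hF
  haveI : Surjective M.left := hS
  have hsq : IsPullback (X ◁ M).left (pullback.snd X.hom (Q ⊗ Q).hom) (pullback.snd X.hom G.hom) M.left := by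
    refine IsPullback.of_right (h₁₂ := pullback.fst X.hom G.hom) (h₂₂ := G.hom) (v₁₃ := X.hom) ?_ ?_
      (IsPullback.of_hasPullback X.hom G.hom).flip.flip
    · have e : (X ◁ M).left ≫ pullback.fst X.hom G.hom = pullback.fst X.hom (Q ⊗ Q).hom :=
        congrArg (fun r : _ ⟶ X => r.left) (whiskerLeft_fst X M)
      rw [e, Over.w]
      exact IsPullback.of_hasPullback X.hom (Q ⊗ Q).hom
    · exact congrArg (fun r : _ ⟶ G => r.left) (whiskerLeft_snd X M)
  haveI : Flat (X ◁ M).left := MorphismProperty.of_isPullback (P := @Flat) hsq.flip hF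
  haveI : Surjective (X ◁ M).left := MorphismProperty.of_isPullback (P := @Surjective) hsq.flip hS
  haveI : Epi (X ◁ M) := by
    haveI := Flat.epi_of_flat_of_surjective (X ◁ M).left
    exact Over.epi_of_epi_left _
  have key : (fst X G ≫ g) * snd X G = snd X G * (fst X G ≫ g) := by
    rw [← cancel_epi (X ◁ M), MonObj.comp_mul, MonObj.comp_mul, whiskerLeft_fst_assoc, whiskerLeft_snd]
    refine hom_ext_of_tests fun A _ b p => ?_
    simp only [M, MonObj.comp_mul]
    obtain ⟨h1, h2⟩ := h A b (p ≫ fst _ _)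
    have hcell : ∀ q : tb b A ⟶ Q, Commute ((p ≫ fst _ _) ≫ g) (q ≫ cm) := fun q => by
      obtain ⟨y, t, z, rfl⟩ := exists_cellPt D q
      rw [cellPt_cellMap, cellWord]
      have hw : ∀ {r : ℕ} (d : Fin r → D.idx) (c : Fin r → A), Commute ((p ≫ fst _ _) ≫ g) (word D d c) :=
        fun {r} d c => Commute.list_prod_right _ _ fun w hw => by
          obtain ⟨i, rfl⟩ := List.mem_ofFn.mp hw
          exact h1 _ _
      exact (hw l y).mul_right ((h2 t).mul_right (hw l' z))
    simp only [Category.assoc] at hcell ⊢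
    have := (hcell (p ≫ snd _ _ ≫ fst _ _)).mul_right (hcell (p ≫ snd _ _ ≫ snd _ _))
    simp only [Category.assoc] at this
    exact this.eq
  have := congrArg (lift x k ≫ ·) key
  simpa only [MonObj.comp_mul, lift_fst_assoc, lift_snd] using this

/-- A central point over a field lies in the cell. -/
theorem mem_cell_of_central [IsAffineHom G.hom] {n m : ℕ} {f : D.M →+ ℤ} {l : Fin n → D.idx}
    {l' : Fin m → D.idx} (hl : PosList D (-f) l) (hl' : PosList D f l') (hreg : ∀ a, f (D.P.root a) ≠ 0)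
    {K : Type u} [Field K] [IsAlgClosed K] {b : Spec (CommRingCat.of K) ⟶ S} (g : tb b K ⟶ G)
    (hg : ∀ k : tb b K ⟶ G, Commute g k) : ∃ p, p ≫ RedSub.cellMap D l l' = g := by
  haveI := isOpenImmersion_cell hl hl' hreg
  let cm := RedSub.cellMap D l l'
  let bK : Spec (CommRingCat.of K) ⟶ S := Spec.map (CommRingCat.ofHom (algebraMap K K)) ≫ b
  have hone : (1 : tb b K ⟶ G).left (IsLocalRing.closedPoint K) ∈ cm.left.opensRange := by
    rw [← cellMap_one D l l' b]
    exact ⟨_, rfl⟩
  have hlift : ∀ h : tb b K ⟶ G, h.left (IsLocalRing.closedPoint K) ∈ cm.left.opensRange →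
      ∃ p : tb b K ⟶ CellSrc D n m, p ≫ cm = h := fun h hh => by
    have hr : Set.range h.left ⊆ Set.range cm.left := by
      rintro _ ⟨z, rfl⟩
      obtain rfl : z = IsLocalRing.closedPoint K := Subsingleton.elim (α := Spec (CommRingCat.of K)) _ _
      exact hh
    exact ⟨Over.homMk (IsOpenImmersion.lift cm.left h.left hr)
      (by rw [← Over.w cm, IsOpenImmersion.lift_fac_assoc, Over.w]),
      Over.OverMorphism.ext (IsOpenImmersion.lift_fac _ _ _)⟩
  let φ : Over.mk bK ⊗ G ⟶ G := (fst _ _ ≫ g) * snd _ _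
  let φ' : Over.mk bK ⊗ G ⟶ G := snd (Over.mk bK) G
  have hφ : ∀ h : Over.mk bK ⟶ G, lift (𝟙 _) h ≫ φ = g * h := fun h => by
    show lift (𝟙 _) h ≫ (fst (Over.mk bK) G ≫ g * snd (Over.mk bK) G) = _
    rw [MonObj.comp_mul, lift_snd, ← Category.assoc, lift_fst, Category.id_comp]
  obtain ⟨h, m₁, m₂⟩ := GrpSchLib.RankOne.exists_point_mem D.reductive bK φ φ' cm.left.opensRange
    cm.left.opensRange g⁻¹ 1 (by rw [hφ, mul_inv_cancel]; exact hone) (by rw [lift_snd]; exact hone)
  rw [hφ] at m₁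
  rw [lift_snd] at m₂
  obtain ⟨p, hp⟩ := hlift _ m₁
  obtain ⟨q, hq⟩ := hlift _ m₂
  obtain ⟨y', t', x', rfl⟩ := exists_cellPt D p
  obtain ⟨y, t, x, rfl⟩ := exists_cellPt D q
  rw [cellPt_cellMap] at hp hq
  obtain ⟨a, ha⟩ := exists_word hl
    ((((hasLimOne_word D (hl.pos D) y).inv _).mul _ (hasLimOne_word D (hl.pos D) y')) :
      (lam D (-f)).HasLimOne ((word D l y : tb b K ⟶ G)⁻¹ * word D l y'))
  obtain ⟨c, hc⟩ := exists_word hl'
    (((hasLimOne_word D (hl'.pos D) x').mul _ ((hasLimOne_word D (hl'.pos D) x).inv _)) :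
      (lam D f).HasLimOne ((word D l' x' : tb b K ⟶ G) * (word D l' x)⁻¹))
  refine ⟨cellPt D a (t' * t⁻¹) fun k => (chr D (D.P.root (l' k)) t : K) * c k, ?_⟩
  rw [cellPt_cellMap, cellWord, ← conj_word, ha, hc, tG_mul, tG_inv]
  rw [← hq, cellWord, cellWord, ← _root_.mul_assoc g, (hg (word D l y)).eq, _root_.mul_assoc] at hp
  have e : g = (word D l y)⁻¹ * (word D l y' * (tG D t' * word D l' x')) * (tG D t * word D l' x)⁻¹ := by
    rw [hp]
    group
  rw [e]
  group

/-- A central point lies in the torus. -/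
theorem exists_torus_of_central {X : Over S} (g : X ⟶ G)
    (hg : ∀ (X' : Over S) (x : X' ⟶ X) (k : X' ⟶ G), (x ≫ g) * k = k * (x ≫ g)) :
    ∃ t : X ⟶ D.T, t ≫ D.i = g := by
  haveI : IsAffineHom G.hom := isAffineHom_of_split D
  haveI : Mono D.i := D.maximalTorus.2.1
  obtain ⟨f, hreg, -⟩ := exists_separating D
  obtain ⟨n, l, hl⟩ := exists_posList D (-f)
  obtain ⟨m, l', hl'⟩ := exists_posList D f
  haveI := isOpenImmersion_cell hl hl' hreg
  let cm := RedSub.cellMap D l l'
  refine exists_lift_of_tests D.i g fun A _ b φ => ?_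
  have hr : Set.range (φ ≫ g).left ⊆ Set.range cm.left := by
    rintro _ ⟨z, rfl⟩
    let z' : PrimeSpectrum A := z
    let K := AlgebraicClosure z'.asIdeal.ResidueField
    letI : Algebra A K := ((algebraMap z'.asIdeal.ResidueField K).comp (algebraMap A _)).toAlgebra
    let bK : Spec (CommRingCat.of K) ⟶ S := Spec.map (CommRingCat.ofHom (algebraMap A K)) ≫ b
    let e : tb bK K ⟶ tb b A := Over.homMk (Spec.map (CommRingCat.ofHom (algebraMap A K))) (by
      show _ ≫ Spec.map (CommRingCat.ofHom (algebraMap A A)) ≫ b = Spec.map (CommRingCat.ofHom (algebraMap K K)) ≫ bK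
      simp [bK])
    obtain ⟨p, hp⟩ := mem_cell_of_central hl hl' hreg (e ≫ φ ≫ g) fun k => by
      show _ = _
      simpa only [Category.assoc] using hg _ (e ≫ φ) k
    refine ⟨p.left (IsLocalRing.closedPoint K), ?_⟩
    show (p ≫ cm).left (IsLocalRing.closedPoint K) = _
    rw [hp]
    rw [show (e ≫ φ ≫ g).left = Spec.map (CommRingCat.ofHom (algebraMap A K)) ≫ (φ ≫ g).left from rfl]
    refine (Scheme.Hom.comp_apply _ _ _).trans ?_
    congr 1
    apply PrimeSpectrum.ext
    show Ideal.comap (algebraMap A K) (IsLocalRing.maximalIdeal K) = z'.asIdeal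
    rw [IsLocalRing.maximalIdeal_eq_bot]
    refine Eq.trans ?_ (Ideal.ker_algebraMap_residueField z'.asIdeal)
    exact RingHom.ker_comp_of_injective _ (algebraMap z'.asIdeal.ResidueField K).injective
  let p : tb b A ⟶ CellSrc D n m := Over.homMk (IsOpenImmersion.lift cm.left (φ ≫ g).left hr)
    (by rw [← Over.w cm, IsOpenImmersion.lift_fac_assoc, Over.w])
  have hp : p ≫ cm = φ ≫ g := Over.OverMorphism.ext (IsOpenImmersion.lift_fac _ _ _)
  obtain ⟨y, t, x, hpt⟩ := exists_cellPt D p
  refine ⟨t, ?_⟩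
  rw [hpt, cellPt_cellMap] at hp
  rw [← hp]
  refine (cellWord_eq_torus hl hl' ⟨tpt D (coVal D f (Tu A)), ?_⟩).symm
  rw [hp, ← Category.assoc, hg _ (tm b CL ≫ φ), mul_inv_cancel_right]

theorem central_iff {X : Over S} (g : X ⟶ G) :
    (∀ (X' : Over S) (x : X' ⟶ X) (h : X' ⟶ G), (x ≫ g) * h = h * (x ≫ g)) ↔
      ∃ t : X ⟶ D.T, t ≫ D.i = g ∧ ∀ a : D.idx, t ≫ D.split.hom.hom.hom ≫ Red.chi S (D.P.root a) = 1 := by
  constructor
  · intro hg
    obtain ⟨t, rfl⟩ := exists_torus_of_central (D := D) g hg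
    refine ⟨t, rfl, fun a => hom_ext_of_tests fun A _ b φ => gmUnit_injective ?_⟩
    rw [← Category.assoc, ← Category.assoc, MonObj.comp_one, gmUnit_one, Category.assoc]
    show chr D (D.P.root a) (φ ≫ t) = 1
    have h := conj_ua D (φ ≫ t) a (1 : A)
    have hcom : tG D (φ ≫ t) * ua D a (1 : A) = ua D a 1 * tG D (φ ≫ t) := by
      simpa only [tG, Category.assoc] using hg _ φ (ua D a (1 : A))
    rw [hcom, mul_inv_cancel_right, _root_.mul_one] at h
    exact Units.ext (ua_injective D a h).symm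
  · rintro ⟨t, rfl, ht⟩ X' x k
    refine comm_of_cell (D := D) (t ≫ D.i) (fun A _ b φ => ⟨fun a c => ?_, fun t' => ?_⟩) x k
    · have hchr : chr D (D.P.root a) (φ ≫ t) = 1 := by
        rw [chr, Category.assoc, ht, MonObj.comp_one, gmUnit_one]
      have h := conj_ua D (φ ≫ t) a c
      rw [hchr, Units.val_one, _root_.one_mul, mul_inv_eq_iff_eq_mul] at h
      rw [← Category.assoc]
      exact h
    · show (φ ≫ t ≫ D.i) * tG D t' = tG D t' * (φ ≫ t ≫ D.i)
      rw [← Category.assoc, ← tG, ← tG_mul, ← tG_mul, torus_comm]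

end Groth.Agent.DynX.SplitCentre
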