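import Groth.Agent.DynX.SplitCentre

/-!
# Lattice maps and roots attached to a point carrying one split torus into another
-/

set_option autoImplicit false
set_option linter.unusedSectionVars false
set_option linter.style.haveILetI false

universe u

open CategoryTheory CategoryTheory.Limits AlgebraicGeometry MonoidalCategory CartesianMonoidalCategory
open MonObj GrpObj

noncomputable section

namespace Groth.Agent.DynX.SplitConj

open RedCell22

variable {k : Type u} [Field k]

/-- The tautological base. -/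
abbrev b0 (k : Type u) [Field k] : Spec (CommRingCat.of k) ⟶ Spec (CommRingCat.of k) := 𝟙 _

variable {G : Over (Spec (CommRingCat.of k))} [GrpObj G]
variable {B C : Type u} [CommRing B] [Algebra k B] [CommRing C] [Algebra k C]

/-- A rational point over a test algebra. -/
def gB (g : 𝟙_ (Over (Spec (CommRingCat.of k))) ⟶ G) : tb (b0 k) B ⟶ G := toUnit _ ≫ g

theorem gB_map (g : 𝟙_ (Over (Spec (CommRingCat.of k))) ⟶ G) (φ : B →ₐ[k] C) :
    tm (b0 k) φ ≫ gB g = gB g := by
  rw [gB, ← Category.assoc, toUnit_unique (tm (b0 k) φ ≫ toUnit _) (toUnit _)]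
  rfl

theorem gB_inv (g : 𝟙_ (Over (Spec (CommRingCat.of k))) ⟶ G) : (gB g⁻¹ : tb (b0 k) B ⟶ G) = (gB g)⁻¹ :=
  GrpObj.comp_inv _ _

theorem gB_mul (g h : 𝟙_ (Over (Spec (CommRingCat.of k))) ⟶ G) :
    (gB (g * h) : tb (b0 k) B ⟶ G) = gB g * gB h :=
  MonObj.comp_mul _ _ _

/-- The universal unit of a group algebra. -/
def uCh (R : Type u) [CommRing R] [Algebra k R] (M : Type) [AddCommGroup M] :
    Multiplicative M →* (MonoidAlgebra R (Multiplicative M))ˣ :=
  (MonoidAlgebra.of R (Multiplicative M)).toHomUnits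

theorem uCh_val (R : Type u) [CommRing R] [Algebra k R] (M : Type) [AddCommGroup M] (m : Multiplicative M) :
    (uCh (k := k) R M m : MonoidAlgebra R (Multiplicative M)) = MonoidAlgebra.single m 1 := rfl

/-- A group-like element of a group algebra over a field is a group element. -/
theorem exists_single {M : Type} [AddCommGroup M] (v : MonoidAlgebra k (Multiplicative M)) (hv : v ≠ 0)
    (h : MonoidAlgebra.lift k (MonoidAlgebra k (Multiplicative (M × M))) (Multiplicative M)
        ((MonoidAlgebra.of k (Multiplicative (M × M))).comp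
          (AddMonoidHom.toMultiplicative ((AddMonoidHom.id M).prod (AddMonoidHom.id M)))) v =
      MonoidAlgebra.lift k (MonoidAlgebra k (Multiplicative (M × M))) (Multiplicative M)
        ((MonoidAlgebra.of k (Multiplicative (M × M))).comp
          (AddMonoidHom.toMultiplicative (AddMonoidHom.inl M M))) v *
      MonoidAlgebra.lift k (MonoidAlgebra k (Multiplicative (M × M))) (Multiplicative M)
        ((MonoidAlgebra.of k (Multiplicative (M × M))).comp
          (AddMonoidHom.toMultiplicative (AddMonoidHom.inr M M))) v) :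
    ∃ m, v = MonoidAlgebra.single m 1 := by
  classical
  have hexp : ∀ (φ : M →+ M × M), MonoidAlgebra.lift k (MonoidAlgebra k (Multiplicative (M × M))) (Multiplicative M)
      ((MonoidAlgebra.of k (Multiplicative (M × M))).comp (AddMonoidHom.toMultiplicative φ)) v =
      ∑ m ∈ v.coeff.support, MonoidAlgebra.single (Multiplicative.ofAdd (φ m.toAdd)) (v.coeff m) := by
    intro φ
    conv_lhs => rw [← MonoidAlgebra.sum_coeff_single v]
    rw [Finsupp.sum, map_sum]
    refine Finset.sum_congr rfl fun m _ => ?_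
    rw [MonoidAlgebra.lift_single]
    simp [MonoidAlgebra.smul_single]
  rw [hexp, hexp, hexp, Finset.sum_mul_sum] at h
  have hcoef : ∀ p q : Multiplicative M, v.coeff p * v.coeff q = if p = q then v.coeff p else 0 := by
    intro p q
    have := congrArg (fun w => MonoidAlgebra.coeff w (Multiplicative.ofAdd ((p.toAdd, q.toAdd) : M × M))) h
    simp only [MonoidAlgebra.single_mul_single, MonoidAlgebra.coeff_sum, Finsupp.finsetSum_apply,
      MonoidAlgebra.coeff_single, Finsupp.single_apply] at this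
    have e1 : ∀ a : Multiplicative M, (Multiplicative.ofAdd ((AddMonoidHom.id M).prod (AddMonoidHom.id M) a.toAdd) =
        Multiplicative.ofAdd ((p.toAdd, q.toAdd) : M × M)) ↔ (a = p ∧ a = q) := fun a => by simp
    have e2 : ∀ a c : Multiplicative M, (Multiplicative.ofAdd (AddMonoidHom.inl M M a.toAdd) *
        Multiplicative.ofAdd (AddMonoidHom.inr M M c.toAdd) = Multiplicative.ofAdd ((p.toAdd, q.toAdd) : M × M)) ↔
        (a = p ∧ c = q) := fun a c => by
      rw [← ofAdd_add]
      simp
    simp only [e1, e2, ite_and, Finset.sum_ite_eq', Finsupp.mem_support_iff] at this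
    by_cases hp : v.coeff p = 0 <;> by_cases hq : v.coeff q = 0 <;> by_cases hpq : p = q <;>
      simp_all
  obtain ⟨p, hp⟩ : ∃ p, v.coeff p ≠ 0 := by
    by_contra hne
    push Not at hne
    exact hv (MonoidAlgebra.ext (Finsupp.ext hne))
  have h1 : v.coeff p = 1 := by
    have := hcoef p p
    rw [if_pos rfl] at this
    exact mul_left_cancel₀ hp (this.trans (_root_.mul_one _).symm)
  refine ⟨p, MonoidAlgebra.ext (Finsupp.ext fun q => ?_)⟩
  rw [MonoidAlgebra.coeff_single, Finsupp.single_apply]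
  by_cases hpq : p = q
  · rw [if_pos hpq, ← hpq, h1]
  · rw [if_neg hpq]
    have := hcoef p q
    rwa [if_neg hpq, h1, _root_.one_mul] at this

variable (D D' : Red.SplitRed G)

/-- The lattice map of a point carrying one torus into the other. -/
theorem exists_latticeMap (g : 𝟙_ (Over (Spec (CommRingCat.of k))) ⟶ G)
    (hg : ∀ (X : Over (Spec (CommRingCat.of k))) (t : X ⟶ D.T), ∃ t' : X ⟶ D'.T,
      (toUnit X ≫ g) * (t ≫ D.i) * (toUnit X ≫ g)⁻¹ = t' ≫ D'.i) :
    ∃ ψ : D'.M →+ D.M, Function.Surjective ψ ∧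
      ∀ (B : Type u) [CommRing B] [Algebra k B] (t : tb (b0 k) B ⟶ D.T), ∃ t' : tb (b0 k) B ⟶ D'.T,
        gB g * tG D t * (gB g)⁻¹ = tG D' t' ∧ ∀ m', chr D' m' t' = chr D (ψ m') t := by
  classical
  choose conjT hconjT using fun (B : Type u) (_ : CommRing B) (_ : Algebra k B) (t : tb (b0 k) B ⟶ D.T) => hg _ t
  let F : ∀ (B : Type u) [CommRing B] [Algebra k B], (tb (b0 k) B ⟶ D.T) → (tb (b0 k) B ⟶ D'.T) :=
    fun B _ _ => conjT B inferInstance inferInstance
  have hF : ∀ (B : Type u) [CommRing B] [Algebra k B] (t : tb (b0 k) B ⟶ D.T),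
      gB g * tG D t * (gB g)⁻¹ = tG D' (F B t) := fun B _ _ t => hconjT B _ _ t
  have hnat : ∀ {B C : Type u} [CommRing B] [Algebra k B] [CommRing C] [Algebra k C] (φ : B →ₐ[k] C)
      (t : tb (b0 k) B ⟶ D.T), F C (tm (b0 k) φ ≫ t) = tm (b0 k) φ ≫ F B t := by
    intro B C _ _ _ _ φ t
    apply tG_injective D'
    rw [← tG_map, ← hF, ← hF, tm_mul, tm_mul, tm_inv, gB_map, tG_map]
  have hmul : ∀ (B : Type u) [CommRing B] [Algebra k B] (t t' : tb (b0 k) B ⟶ D.T),
      F B (t * t') = F B t * F B t' := by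
    intro B _ _ t t'
    apply tG_injective D'
    rw [tG_mul, ← hF, ← hF, ← hF, tG_mul]
    group
  let L := MonoidAlgebra k (Multiplicative D.M)
  let τ : tb (b0 k) L ⟶ D.T := tpt D (uCh (k := k) k D.M)
  have huniv : ∀ (B : Type u) [CommRing B] [Algebra k B] (χ : Multiplicative D.M →* Bˣ),
      tm (b0 k) (MonoidAlgebra.lift k B (Multiplicative D.M) ((Units.coeHom B).comp χ)) ≫ τ = tpt D χ := by
    intro B _ _ χ
    rw [tpt_map]
    congr 1
    refine MonoidHom.ext fun m => Units.ext ?_
    simp [uCh_val]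
  have hgl : ∀ m' : D'.M, ∃ m : Multiplicative D.M, (chr D' m' (F L τ) : L) = MonoidAlgebra.single m 1 := by
    intro m'
    refine exists_single _ (Units.ne_zero _) ?_
    let L2 := MonoidAlgebra k (Multiplicative (D.M × D.M))
    let c : (D.M →+ D.M × D.M) → (Multiplicative D.M →* L2ˣ) := fun φ =>
      (uCh (k := k) k (D.M × D.M)).comp (AddMonoidHom.toMultiplicative φ)
    have key : ∀ φ : D.M →+ D.M × D.M, (chr D' m' (F L2 (tpt D (c φ))) : L2) =
        MonoidAlgebra.lift k L2 (Multiplicative D.M)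
          ((MonoidAlgebra.of k (Multiplicative (D.M × D.M))).comp (AddMonoidHom.toMultiplicative φ))
          (chr D' m' (F L τ)) := by
      intro φ
      rw [← huniv L2 (c φ), hnat, chr_map]
      rfl
    have hc : c ((AddMonoidHom.id D.M).prod (AddMonoidHom.id D.M)) =
        c (AddMonoidHom.inl D.M D.M) * c (AddMonoidHom.inr D.M D.M) := by
      refine MonoidHom.ext fun m => ?_
      show uCh (k := k) k (D.M × D.M) _ = uCh (k := k) k (D.M × D.M) _ * uCh (k := k) k (D.M × D.M) _
      rw [← map_mul]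
      congr 1
      apply Multiplicative.toAdd.injective
      simp
    rw [← key, ← key, ← key, ← Units.val_mul, ← chr_mul, ← hmul, ← tpt_mul, ← hc]
  choose ψ₀ hψ₀ using hgl
  have hchr : ∀ (B : Type u) [CommRing B] [Algebra k B] (t : tb (b0 k) B ⟶ D.T) (m' : D'.M),
      chr D' m' (F B t) = chr D (ψ₀ m').toAdd t := by
    intro B _ _ t m'
    obtain ⟨χ, rfl⟩ := tpt_surjective D t
    refine Units.ext ?_
    rw [← huniv B χ, hnat, chr_map, chr_map]
    show MonoidAlgebra.lift k B (Multiplicative D.M) _ (chr D' m' (F L τ) : L) =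
      MonoidAlgebra.lift k B (Multiplicative D.M) _ (chr D (ψ₀ m').toAdd τ : L)
    rw [hψ₀, chr_tpt, ofAdd_toAdd]
    rfl
  have hadd : ∀ a c : D'.M, (ψ₀ (a + c)).toAdd = (ψ₀ a).toAdd + (ψ₀ c).toAdd := by
    intro a c
    have hchr' : ∀ (t : tb (b0 k) L ⟶ D'.T), chr D' (a + c) t = chr D' a t * chr D' c t := fun t => by
      obtain ⟨χ, rfl⟩ := tpt_surjective D' t
      rw [chr_tpt, chr_tpt, chr_tpt, ofAdd_add, map_mul]
    have := congrArg Units.val (hchr' (F L τ))
    rw [Units.val_mul, hψ₀, hψ₀, hψ₀, MonoidAlgebra.single_mul_single, _root_.one_mul] at this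
    exact congrArg Multiplicative.toAdd (MonoidAlgebra.single_left_injective one_ne_zero this :)
  let ψ : D'.M →+ D.M := AddMonoidHom.mk' (fun m' => (ψ₀ m').toAdd) hadd
  refine ⟨ψ, ?_, fun B _ _ t => ⟨F B t, hF B t, fun m' => hchr B t m'⟩⟩
  -- surjectivity from injectivity on points
  intro m
  let Q := D.M ⧸ ψ.range
  let LQ := MonoidAlgebra k (Multiplicative Q)
  let χ : Multiplicative D.M →* LQˣ :=
    (uCh (k := k) k Q).comp (AddMonoidHom.toMultiplicative (QuotientAddGroup.mk' ψ.range))
  have h1 : F LQ (tpt D χ) = F LQ (tpt D 1) := by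
    refine tpt_ext D' fun m' => ?_
    rw [hchr, hchr, chr_tpt, chr_tpt, ofAdd_toAdd]
    show uCh (k := k) k Q _ = 1
    have : QuotientAddGroup.mk' ψ.range (ψ m') = 0 := (QuotientAddGroup.eq_zero_iff _).mpr ⟨m', rfl⟩
    rw [show AddMonoidHom.toMultiplicative (QuotientAddGroup.mk' ψ.range) (ψ₀ m') = 1 from
      congrArg Multiplicative.ofAdd this, map_one]
  have h2 : tpt D χ = (tpt D 1 : tb (b0 k) LQ ⟶ D.T) := by
    apply tG_injective D
    have := congrArg (tG D') h1
    rw [← hF, ← hF] at this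
    simpa using this
  have h3 := congrArg (fun t => (chr D m t : LQ)) h2
  simp only [chr_tpt, MonoidHom.one_apply, Units.val_one] at h3
  have h4 : QuotientAddGroup.mk' ψ.range m = 0 :=
    congrArg Multiplicative.toAdd (MonoidAlgebra.single_left_injective one_ne_zero
      (h3.trans MonoidAlgebra.one_def) :)
  exact AddMonoidHom.mem_range.mp ((QuotientAddGroup.eq_zero_iff _).mp h4)

/-- Scaling of the infinitesimal variable. -/
def sc {L : Type u} [CommRing L] [Algebra k L] (c : L) : DualNumber k →ₐ[k] DualNumber L :=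
  DualNumber.lift ⟨(Algebra.ofId k (DualNumber L), TrivSqZeroExt.inl c * DualNumber.eps), by
    show TrivSqZeroExt.inl c * DualNumber.eps * (TrivSqZeroExt.inl c * DualNumber.eps) = 0
    rw [_root_.mul_mul_mul_comm, DualNumber.eps_mul_eps, mul_zero], fun _ => Commute.all _ _⟩

theorem sc_inr {L : Type u} [CommRing L] [Algebra k L] (c : L) {y : DualNumber k} (hy : TrivSqZeroExt.fst y = 0) :
    sc c y = TrivSqZeroExt.inr (TrivSqZeroExt.snd y • c) := by
  rw [sc, DualNumber.lift_apply_apply, hy, map_zero, _root_.zero_add]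
  show algebraMap k (DualNumber L) (TrivSqZeroExt.snd y) * (TrivSqZeroExt.inl c * DualNumber.eps) = _
  rw [TrivSqZeroExt.algebraMap_eq_inl', ← _root_.mul_assoc, ← TrivSqZeroExt.inl_mul, DualNumber.eps,
    TrivSqZeroExt.inl_mul_inr, smul_eq_mul, _root_.mul_one, Algebra.smul_def]

theorem sc_eps {L : Type u} [CommRing L] [Algebra k L] (c : L) :
    sc (k := k) c DualNumber.eps = TrivSqZeroExt.inl c * DualNumber.eps := DualNumber.lift_apply_eps _

/-- A function of an additive parameter on which the torus acts through a character meets only roots. -/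
theorem eq_root_of_weight [IsAffineHom G.hom] (α : D.M)
    (w : ∀ (B : Type u) [CommRing B] [Algebra k B], B → (tb (b0 k) B ⟶ G))
    (hnat : ∀ {B C : Type u} [CommRing B] [Algebra k B] [CommRing C] [Algebra k C] (φ : B →ₐ[k] C) (x : B),
      tm (b0 k) φ ≫ w B x = w C (φ x))
    (h0 : ∀ (B : Type u) [CommRing B] [Algebra k B], w B 0 = 1)
    (hne : w (DualNumber k) DualNumber.eps ≠ 1)
    (hconj : ∀ (B : Type u) [CommRing B] [Algebra k B] (t : tb (b0 k) B ⟶ D.T) (x : B),
      tG D t * w B x * (tG D t)⁻¹ = w B ((chr D α t : B) * x)) :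
    α = 0 ∨ ∃ a, D.P.root a = α := by
  classical
  by_contra hcon
  push Not at hcon
  obtain ⟨hα0, hα⟩ := hcon
  obtain ⟨f, hreg, -⟩ := exists_separating D
  obtain ⟨n, l, hl⟩ := exists_posList D (-f)
  obtain ⟨m, l', hl'⟩ := exists_posList D f
  let I : Ideal (DualNumber k) := Ideal.span {DualNumber.eps}
  let fst₀ : DualNumber k →ₐ[k] k := TrivSqZeroExt.fstHom k k k
  have hfst : tm (b0 k) fst₀ ≫ w (DualNumber k) DualNumber.eps = 1 := by
    rw [hnat]
    show w k (TrivSqZeroExt.fst (DualNumber.eps : DualNumber k)) = 1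
    rw [DualNumber.fst_eps, h0]
  have hinf : Inf I (w (DualNumber k) DualNumber.eps) := fun q => by
    have h := dl_map (b := b0 k) fst₀ (w (DualNumber k) DualNumber.eps) q
    rw [hfst, dl_one] at h
    refine Ideal.mem_span_singleton'.mpr ⟨TrivSqZeroExt.inl (TrivSqZeroExt.snd (dl (b := b0 k) (w (DualNumber k) DualNumber.eps) q)), ?_⟩
    refine TrivSqZeroExt.ext ?_ ?_
    · simp only [DualNumber.eps, TrivSqZeroExt.inl_mul_inr, TrivSqZeroExt.fst_inr]
      exact h
    · rw [DualNumber.eps, TrivSqZeroExt.inl_mul_inr, TrivSqZeroExt.snd_inr, smul_eq_mul, _root_.mul_one]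
  obtain ⟨y, t, x, hw⟩ := exists_cellWord_of_inf hl hl' hreg (span_eps_sq k) hinf
  have hz : (∀ j, TrivSqZeroExt.fst (y j) = 0) ∧ tm (b0 k) fst₀ ≫ t = 1 ∧ ∀ j, TrivSqZeroExt.fst (x j) = 0 := by
    have h := hfst
    rw [hw, ← cellPt_cellMap, ← Category.assoc, cellPt_map, cellPt_cellMap] at h
    have h' : cellWord D l l' (fun j => fst₀ (y j)) (tm (b0 k) fst₀ ≫ t) (fun j => fst₀ (x j)) =
        cellWord D l l' (fun _ => (0 : k)) (1 : tb (b0 k) k ⟶ D.T) (fun _ => 0) := by
      rw [h, cellWord, word_zero, word_zero, tG_one, _root_.one_mul, _root_.one_mul]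
    obtain ⟨e1, e2, e3⟩ := cellWord_injective hl hl' h'
    exact ⟨fun j => congrFun e1 j, e2, fun j => congrFun e3 j⟩
  let L := MonoidAlgebra k (Multiplicative D.M)
  let inlL : L →ₐ[k] DualNumber L := IsScalarTower.toAlgHom k L (DualNumber L)
  let τ : tb (b0 k) (DualNumber L) ⟶ D.T :=
    tpt D ((Units.map (inlL : L →* DualNumber L)).comp (uCh (k := k) k D.M))
  let e : D.M → L := fun m => MonoidAlgebra.single (Multiplicative.ofAdd m) 1
  have hτ : ∀ m, (chr D m τ : DualNumber L) = TrivSqZeroExt.inl (e m) := fun m => by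
    rw [chr_tpt]
    rfl
  let jot : DualNumber k →ₐ[k] DualNumber L := sc 1
  let σ : DualNumber k →ₐ[k] DualNumber L := sc (e α)
  have hmain : tG D τ * (tm (b0 k) jot ≫ w (DualNumber k) DualNumber.eps) * (tG D τ)⁻¹ =
      tm (b0 k) σ ≫ w (DualNumber k) DualNumber.eps := by
    rw [hnat, hnat, hconj, hτ, sc_eps, sc_eps, TrivSqZeroExt.inl_one, _root_.one_mul]
  have hlhs : tG D τ * (tm (b0 k) jot ≫ w (DualNumber k) DualNumber.eps) * (tG D τ)⁻¹ =
      cellWord D l l' (fun j => (chr D (D.P.root (l j)) τ : DualNumber L) * jot (y j)) (tm (b0 k) jot ≫ t)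
        (fun j => (chr D (D.P.root (l' j)) τ : DualNumber L) * jot (x j)) := by
    rw [hw, ← cellPt_cellMap, ← Category.assoc, cellPt_map, cellPt_cellMap, cellWord, cellWord, ← conj_word,
      ← conj_word]
    have hc : tG D τ * tG D (tm (b0 k) jot ≫ t) * (tG D τ)⁻¹ = tG D (tm (b0 k) jot ≫ t) := by
      rw [← tG_mul, torus_comm, tG_mul, mul_inv_cancel_right]
    conv_rhs => rw [← hc]
    group
  have hrhs : tm (b0 k) σ ≫ w (DualNumber k) DualNumber.eps =
      cellWord D l l' (fun j => σ (y j)) (tm (b0 k) σ ≫ t) (fun j => σ (x j)) := by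
    rw [hw, ← cellPt_cellMap, ← Category.assoc, cellPt_map, cellPt_cellMap]
  obtain ⟨ey, et, ex⟩ := cellWord_injective hl hl' (hlhs.symm.trans (hmain.trans hrhs))
  have hco : ∀ (c : k) (v : D.M),
      MonoidAlgebra.coeff (c • e v) (Multiplicative.ofAdd α) = if v = α then c else 0 := fun c v => by
    show (c • (MonoidAlgebra.single (Multiplicative.ofAdd v) (1 : k) : MonoidAlgebra k (Multiplicative D.M))).coeff _ = _
    rw [MonoidAlgebra.smul_single, MonoidAlgebra.coeff_single, Finsupp.single_apply, smul_eq_mul, _root_.mul_one]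
    simp
  have he1 : (1 : L) = e 0 := MonoidAlgebra.one_def
  have hvec : ∀ (r : D.idx) (z : DualNumber k), TrivSqZeroExt.fst z = 0 →
      (chr D (D.P.root r) τ : DualNumber L) * jot z = σ z → z = 0 := by
    intro r z hz0 hz
    refine TrivSqZeroExt.ext hz0 ?_
    rw [hτ, sc_inr _ hz0, sc_inr _ hz0, TrivSqZeroExt.inl_mul_inr, smul_eq_mul, _root_.mul_smul_comm,
      _root_.mul_one] at hz
    have h := congrArg (fun p => MonoidAlgebra.coeff (TrivSqZeroExt.snd p) (Multiplicative.ofAdd α)) hz
    simp only [TrivSqZeroExt.snd_inr, hco, if_neg (hα r), if_true] at h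
    simpa using h.symm
  have hy0 : y = fun _ => 0 := funext fun j => hvec (l j) (y j) (hz.1 j) (congrFun ey j)
  have hx0 : x = fun _ => 0 := funext fun j => hvec (l' j) (x j) (hz.2.2 j) (congrFun ex j)
  have ht : t = 1 := by
    refine tpt_ext D fun m => Units.ext ?_
    have hf : TrivSqZeroExt.fst (chr D m t : DualNumber k) = 1 := by
      have := congrArg (fun s => (chr D m s : k)) hz.2.1
      simp only [chr_map, map_one (MonoidHom.mk' (chr D m) (chr_mul D m)).toHomUnits] at this
      exact this.trans (by rw [show chr D m (1 : tb (b0 k) k ⟶ D.T) = 1 from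
        map_one (MonoidHom.mk' (chr D m) (chr_mul D m))]; rfl)
    have hd := congrArg (fun s => (chr D m s : DualNumber L)) et
    simp only [chr_map] at hd
    rw [show chr D m (1 : tb (b0 k) (DualNumber k) ⟶ D.T) = 1 from
      map_one (MonoidHom.mk' (chr D m) (chr_mul D m)), Units.val_one]
    refine TrivSqZeroExt.ext (hf.trans TrivSqZeroExt.fst_one.symm) ?_
    rw [TrivSqZeroExt.snd_one]
    let d := (chr D m t : DualNumber k) - 1
    have hd0 : TrivSqZeroExt.fst d = 0 := by simp [d, hf]
    have hd' : jot d = σ d := by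
      show jot (_ - 1) = σ (_ - 1)
      rw [map_sub, map_sub, map_one, map_one]
      exact congrArg (fun p => p - 1) hd
    rw [sc_inr _ hd0, sc_inr _ hd0] at hd'
    have h := congrArg (fun p => MonoidAlgebra.coeff (TrivSqZeroExt.snd p) (Multiplicative.ofAdd α)) hd'
    simp only [TrivSqZeroExt.snd_inr, he1, hco, if_neg (Ne.symm hα0), if_true] at h
    simpa [d] using h.symm
  apply hne
  rw [hw, hy0, hx0, ht, cellWord, word_zero, word_zero, tG_one, _root_.one_mul, _root_.one_mul]

end Groth.Agent.DynX.SplitConj
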