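import Groth.Agent.DynX.PtFactor
import Groth.Agent.DynX.SplitConj
import Groth.Agent.RedCell22.NoTorus
import Groth.Agent.RedCell22.SimpleGen
import Groth.Agent.RedCell22.HomExt
import Groth.Agent.Red23Lib.Comm2.Commute
import Groth.Agent.SGAGen20.Gen
import Groth.Agent.SGAGen20.Conn
import Groth.Agent.GrpSchLib.Cartier
import Groth.Agent.GrpSchLib.SmoothReduced

/-! The roots of a simple split group over an algebraically closed field are indecomposable. -/

set_option linter.style.haveILetI false
set_option linter.unusedSectionVars false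
set_option backward.isDefEq.respectTransparency false
set_option backward.isDefEq.respectTransparency.types false

universe u

open CategoryTheory CategoryTheory.Limits AlgebraicGeometry MonoidalCategory CartesianMonoidalCategory
open MonObj GrpObj

noncomputable section

namespace Groth.Agent.DynX.SplitSimple

open RedCell22 SplitConj

variable {k : Type u} [Field k] {G : Over (Spec (CommRingCat.of k))} [GrpObj G] {D : Red.SplitRed G}

/-- Root groups of orthogonal roots with no third root commute. -/
theorem commute_of_orth [IsAffineHom G.hom] {s : Set D.idx}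
    (horth : ∀ a ∈ s, ∀ c ∉ s, D.P.pairing a c = 0) {a c : D.idx} (ha : a ∈ s) (hc : c ∉ s) (x y : k) :
    Commute (ua D a x : tb (b0 k) k ⟶ G) (ua D c y) := by
  have hca : D.P.pairing c a = 0 := D.P.pairing_eq_zero_iff'.1 (horth a ha c hc)
  refine Groth.Agent.Red23Lib.commute_ua (a := a) (c := c) (fun e => hc (e ▸ ha)) (fun h0 => ?_) ?_ (b0 k) x y
  · have h1 : D.P.root c = (-1 : ℤ) • D.P.root a + (0 : ℤ) • D.P.root a := by
      rw [zero_smul, _root_.add_zero, neg_one_zsmul, eq_neg_iff_add_eq_zero, _root_.add_comm]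
      exact h0
    have h2 : D.P.pairing c a = -2 := by
      rw [← coroot_root c a, h1, map_add, map_zsmul, map_zsmul, coroot_root, D.P.pairing_same]
      simp
    omega
  · rintro ⟨r, hr⟩
    have h1 : D.P.pairing r a = 2 := by
      rw [pairing_eq_of_root (i := 1) (c := c) (by rw [one_zsmul]; exact hr), hca]
      norm_num
    have h2 : D.P.pairing r c = 2 := by
      rw [pairing_eq_of_root (i := 1) (c := a) (by rw [one_zsmul, _root_.add_comm]; exact hr), horth a ha c hc]
      norm_num
    by_cases hrs : r ∈ s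
    · rw [horth r hrs c hc] at h2; omega
    · rw [D.P.pairing_eq_zero_iff'.1 (horth a ha r hrs)] at h1; omega

/-- In a simple group no nonempty proper set of roots is orthogonal to its complement. -/
theorem eq_univ_of_simple [IsAlgClosed k]
    (hsimple : ∀ (N : Over (Spec (CommRingCat.of k))) [GrpObj N] (n : N ⟶ G) [IsMonHom n],
      IsClosedImmersion n.left → Smooth N.hom → ConnectedSpace N.left → AlgGrp.IsNormalHom n →
      Red.IsTrivialGrp N ∨ IsIso n)
    (D : Red.SplitRed G) {s : Set D.idx} (horth : ∀ a ∈ s, ∀ c ∉ s, D.P.pairing a c = 0)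
    (hne : s.Nonempty) : s = Set.univ := by
  classical
  haveI : IsAffineHom G.hom := isAffineHom_of_split D
  haveI : Smooth G.hom := D.reductive.2.1
  haveI : IsSeparated G.hom := inferInstance
  by_contra hs
  obtain ⟨c₀, hc₀⟩ := (Set.ne_univ_iff_exists_notMem s).1 hs
  let en := Fintype.equivFin {a : D.idx // a ∈ s}
  set n := Fintype.card {a : D.idx // a ∈ s}
  let l : Fin n → D.idx := fun j => (en.symm j).1
  let X := RedSub.pow (Red.Ga (Spec (CommRingCat.of k))) n
  haveI : Smooth X.hom := inferInstance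
  haveI : GeometricallyReduced X.hom := GrpSchLib.geometricallyReduced_of_smooth X.hom
  haveI : IsReduced X.left := GrpSchLib.isReduced_of_smooth_field X.hom
  let f : X ⟶ G := RedSub.prodMap _ n fun j => D.u (l j)
  obtain ⟨N, _, i, hi, hci, ⟨f', hf'⟩, hgr, hred, -, hmin⟩ := SGAGen20.exists_generated f
  haveI := hci
  haveI := hred
  haveI : Mono i.left := inferInstance
  haveI : Mono i := Over.mono_of_mono_left _
  haveI : LocallyOfFiniteType N.hom := by rw [← Over.w i]; infer_instance
  haveI : Smooth N.hom := GrpSchLib.smooth_of_isReduced_of_isAlgClosed N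
  haveI : ConnectedSpace N.left := by
    haveI : ConnectedSpace X.left := by
      haveI := RedCell22.connectedSpace_pow (S := Spec (CommRingCat.of k)) n (K := k) (𝟙 _)
      haveI : ConnectedSpace ↥(pullback X.hom (𝟙 (Spec (CommRingCat.of k)))) := this
      exact (pullback.fst X.hom (𝟙 _)).homeomorph.surjective.connectedSpace
        (pullback.fst X.hom (𝟙 _)).continuous
    let xk : tb (b0 k) k ⟶ X := powPt fun _ => 0
    haveI : IsIso (toUnit (tb (b0 k) k)) := by
      haveI : IsIso ((Over.forget _).map (toUnit (tb (b0 k) k))) := by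
        show IsIso (Spec.map (CommRingCat.ofHom (algebraMap k k)) ≫ 𝟙 _)
        rw [show CommRingCat.ofHom (algebraMap k k) = 𝟙 (CommRingCat.of k) from rfl, Spec.map_id]
        infer_instance
      exact isIso_of_reflects_iso _ (Over.forget _)
    refine SGAGen20.connectedSpace_smallest (f := f) (inv (toUnit _) ≫ xk) ?_ N i ⟨f', hf'⟩ hmin
    rw [Category.assoc, IsIso.inv_comp_eq]
    refine (powPt_prodMap D l _).trans ?_
    rw [word_zero, Hom.one_def]
  -- rational points of the subgroup
  let InN : (tb (b0 k) k ⟶ G) → Prop := fun g => ∃ z, z ≫ i = g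
  have hN1 : InN 1 := ⟨1, MonObj.one_comp i⟩
  have hNmul : ∀ {g h : tb (b0 k) k ⟶ G}, InN g → InN h → InN (g * h) := by
    rintro g h ⟨a, rfl⟩ ⟨c, rfl⟩
    exact ⟨a * c, MonObj.mul_comp a c i⟩
  have hNua : ∀ {a : D.idx}, a ∈ s → ∀ y : k, InN (ua D a y) := fun {a} ha y => by
    refine ⟨powPt (Pi.single (en ⟨a, ha⟩) y) ≫ f', ?_⟩
    rw [Category.assoc, hf', powPt_prodMap, word_single]
    simp [l]
  -- a point moving the generators into the subgroup moves the subgroup into itself
  have hconj : ∀ g₀ : 𝟙_ (Over (Spec (CommRingCat.of k))) ⟶ G,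
      (∀ a ∈ s, ∀ y : k, InN (gB g₀ * ua D a y * (gB g₀)⁻¹)) →
      ∀ h, InN h → InN (gB g₀ * h * (gB g₀)⁻¹) := by
    intro g₀ hg₀
    let cg : G ⟶ G := (toUnit G ≫ g₀) * 𝟙 G * (toUnit G ≫ g₀)⁻¹
    let cg' : G ⟶ G := (toUnit G ≫ g₀)⁻¹ * 𝟙 G * (toUnit G ≫ g₀)
    have hcg : ∀ {W : Over (Spec (CommRingCat.of k))} (h : W ⟶ G),
        h ≫ cg = (toUnit W ≫ g₀) * h * (toUnit W ≫ g₀)⁻¹ := fun h => by
      simp only [cg, MonObj.comp_mul, GrpObj.comp_inv, Category.comp_id, comp_toUnit_assoc]
    have hcg' : ∀ {W : Over (Spec (CommRingCat.of k))} (h : W ⟶ G),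
        h ≫ cg' = (toUnit W ≫ g₀)⁻¹ * h * (toUnit W ≫ g₀) := fun h => by
      simp only [cg', MonObj.comp_mul, GrpObj.comp_inv, Category.comp_id, comp_toUnit_assoc]
    have e1 : cg ≫ cg' = 𝟙 G := by
      rw [hcg']
      simp only [cg]
      group
    have e2 : cg' ≫ cg = 𝟙 G := by
      rw [hcg]
      simp only [cg']
      group
    haveI : IsIso cg := ⟨cg', e1, e2⟩
    haveI : IsIso cg' := ⟨cg, e2, e1⟩
    haveI : IsIso cg'.left := inferInstanceAs (IsIso ((Over.forget _).map cg'))
    haveI : IsMonHom cg' :=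
      { one_hom := by
          rw [hcg']
          have h1 : (η[G] : 𝟙_ (Over (Spec (CommRingCat.of k))) ⟶ G) = 1 := by
            rw [Hom.one_def, toUnit_unique (toUnit (𝟙_ _)) (𝟙 _), Category.id_comp]
          rw [h1]
          group
        mul_hom := by
          rw [show (cg' ⊗ₘ cg') = lift (fst G G ≫ cg') (snd G G ≫ cg') by ext <;> simp, ← Hom.mul_def, hcg']
          have h1 : μ[G] = fst G G * snd G G := by rw [Hom.mul_def, lift_fst_snd, Category.id_comp]
          rw [hcg', hcg', h1]
          group }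
    haveI : IsClosedImmersion (i ≫ cg').left := inferInstanceAs (IsClosedImmersion (i.left ≫ cg'.left))
    obtain ⟨f'', hf''⟩ := exists_factor_of_kpoints i (f ≫ cg) fun x => by
      rw [← Category.assoc, hcg, ← powPt_powCoord x, powPt_prodMap, word]
      have hl : ∀ L : List (tb (b0 k) k ⟶ G),
          (∀ w ∈ L, InN (gB g₀ * w * (gB g₀)⁻¹)) → InN (gB g₀ * L.prod * (gB g₀)⁻¹) := by
        intro L hL
        induction L with
        | nil => simpa using hN1
        | cons w L ih =>
          have := hNmul (hL w (List.mem_cons_self ..)) (ih fun v hv => hL v (List.mem_cons_of_mem _ hv))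
          rw [List.prod_cons]
          convert this using 1
          group
      exact hl _ fun w hw => by
        obtain ⟨j, rfl⟩ := List.mem_ofFn.mp hw
        exact hg₀ _ (en.symm j).2 _
    obtain ⟨j, hj⟩ := hmin N inferInstance (i ≫ cg') inferInstance inferInstance ⟨f'', by
      rw [reassoc_of% hf'', e1, Category.comp_id]⟩
    rintro h ⟨z, rfl⟩
    refine ⟨z ≫ j, ?_⟩
    have h2 : j ≫ i = i ≫ cg := by
      calc j ≫ i = (j ≫ i ≫ cg') ≫ cg := by rw [Category.assoc, Category.assoc, e2, Category.comp_id]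
        _ = i ≫ cg := by rw [hj]
    rw [Category.assoc, h2, ← Category.assoc, hcg]
    rfl
  haveI : IsIso (toUnit (tb (b0 k) k)) := by
    haveI : IsIso ((Over.forget _).map (toUnit (tb (b0 k) k))) := by
      show IsIso (Spec.map (CommRingCat.ofHom (algebraMap k k)) ≫ 𝟙 _)
      rw [show CommRingCat.ofHom (algebraMap k k) = 𝟙 (CommRingCat.of k) from rfl, Spec.map_id]
      infer_instance
    exact isIso_of_reflects_iso _ (Over.forget _)
  let P : (tb (b0 k) k ⟶ G) → Prop := fun g => ∀ h, InN h → InN (g * h * g⁻¹)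
  have hconj' : ∀ g : tb (b0 k) k ⟶ G, (∀ a ∈ s, ∀ y : k, InN (g * ua D a y * g⁻¹)) → P g := by
    intro g hg
    have e : gB (inv (toUnit (tb (b0 k) k)) ≫ g) = g := by rw [gB, IsIso.hom_inv_id_assoc]
    intro h hh
    rw [← e]
    exact hconj _ (fun a ha y => by rw [e]; exact hg a ha y) h hh
  have hPmul : ∀ {g g' : tb (b0 k) k ⟶ G}, P g → P g' → P (g * g') := fun {g g'} hg hg' h hh => by
    have := hg _ (hg' h hh)
    convert this using 1
    group
  have hPt : ∀ t : tb (b0 k) k ⟶ D.T, P (tG D t) := fun t => hconj' _ fun a ha y => by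
    rw [conj_ua]; exact hNua ha _
  have hPu : ∀ (c : D.idx) (x : k), P (ua D c x) := fun c x => by
    by_cases hc : c ∈ s
    · intro h hh
      refine hNmul (hNmul (hNua hc x) hh) ?_
      rw [← ua_neg]
      exact hNua hc _
    · exact hconj' _ fun a ha y => by
        rw [← (commute_of_orth horth ha hc y x).eq, mul_inv_cancel_right]
        exact hNua ha y
  have hPall : ∀ g, P g := by
    obtain ⟨φ, hreg, -⟩ := exists_separating D
    obtain ⟨n₁, ln, hln⟩ := exists_posList D (-φ)
    obtain ⟨m₁, lp, hlp⟩ := exists_posList D φ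
    have hP1 : P 1 := fun h hh => by simpa using hh
    have hw : ∀ {q : ℕ} (e : Fin q → D.idx) (z : Fin q → k), P (word D e z) := fun {q} e z => by
      rw [word]
      refine List.prod_induction P (fun _ _ => hPmul) hP1 fun w hw => ?_
      obtain ⟨j, rfl⟩ := List.mem_ofFn.mp hw
      exact hPu _ _
    have hcell : ∀ p : tb (b0 k) k ⟶ CellSrc D n₁ m₁, P (p ≫ RedSub.cellMap D ln lp) := fun p => by
      obtain ⟨y, t, x, rfl⟩ := exists_cellPt D p
      rw [cellPt_cellMap, cellWord]
      exact hPmul (hw _ _) (hPmul (hPt t) (hw _ _))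
    intro g
    obtain ⟨p, q, rfl⟩ := exists_mul_cell hln hlp hreg g
    exact hPmul (hcell p) (hcell q)
  have hnorm : AlgGrp.IsNormalHom i := by
    haveI : Smooth (G ⊗ N).hom := inferInstance
    haveI : IsReduced (G ⊗ N).left := GrpSchLib.isReduced_of_smooth_field (G ⊗ N).hom
    obtain ⟨w, hw⟩ := exists_factor_of_kpoints i (fst G N * (snd G N ≫ i) * (fst G N)⁻¹) fun x => by
      rw [MonObj.comp_mul, MonObj.comp_mul, GrpObj.comp_inv]
      exact hPall (x ≫ fst G N) _ ⟨x ≫ snd G N, Category.assoc _ _ _⟩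
    intro T g m
    refine ⟨lift g m ≫ w, ?_⟩
    rw [Category.assoc, hw]
    simp only [MonObj.comp_mul, GrpObj.comp_inv, lift_fst, lift_snd_assoc]
  rcases hsimple N i inferInstance inferInstance inferInstance hnorm with htriv | hiso
  · obtain ⟨a, ha⟩ := hne
    obtain ⟨z, hz⟩ := hNua ha (1 : k)
    have hz1 : z = 1 := by
      haveI : IsIso N.hom := htriv
      exact Over.OverMorphism.ext ((cancel_mono N.hom).1 (by rw [Over.w, Over.w]))
    rw [hz1, MonObj.one_comp, ← ua_zero D a] at hz
    exact zero_ne_one (ua_injective D a hz)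
  · haveI := hiso
    let g₀ := inv (toUnit (tb (b0 k) k)) ≫ (ua D c₀ (1 : k) : tb (b0 k) k ⟶ G)
    obtain ⟨E, _, j, _, _, hE⟩ := exists_centralizer_point g₀
    haveI : Mono j.left := inferInstance
    haveI : Mono j := Over.mono_of_mono_left _
    have eg : toUnit (tb (b0 k) k) ≫ g₀ = ua D c₀ (1 : k) := IsIso.hom_inv_id_assoc _ _
    obtain ⟨f'', hf''⟩ := exists_factor_of_kpoints j f fun x => by
      rw [hE, eg, ← powPt_powCoord x, powPt_prodMap]
      exact (Commute.list_prod_right _ _ fun w hw => by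
        obtain ⟨jj, rfl⟩ := List.mem_ofFn.mp hw
        exact (commute_of_orth horth (en.symm jj).2 hc₀ _ _).symm).eq
    obtain ⟨jN, hjN⟩ := hmin E inferInstance j inferInstance inferInstance ⟨f'', hf''⟩
    have hcomm : ∀ t : tb (b0 k) k ⟶ D.T, (ua D c₀ (1 : k) : tb (b0 k) k ⟶ G) * tG D t = tG D t * ua D c₀ 1 := by
      intro t
      have := (hE _ (tG D t)).1 ⟨tG D t ≫ inv i ≫ jN, by
        rw [Category.assoc, Category.assoc, hjN, IsIso.inv_hom_id, Category.comp_id]⟩
      rwa [eg] at this
    have hchr : ∀ t : tb (b0 k) k ⟶ D.T, chr D (D.P.root c₀) t = 1 := fun t => by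
      have h := conj_ua D t c₀ (1 : k)
      rw [← hcomm t, mul_inv_cancel_right, _root_.mul_one] at h
      exact Units.ext (ua_injective D c₀ h).symm
    obtain ⟨z, hz⟩ : ∃ z : kˣ, z ^ (2 : ℤ) ≠ 1 := by
      obtain ⟨z, hz⟩ := Infinite.exists_notMem_finset ({0, 1, -1} : Finset k)
      simp only [Finset.mem_insert, Finset.mem_singleton, not_or] at hz
      refine ⟨Units.mk0 z hz.1, fun e => ?_⟩
      have : z ^ 2 = 1 := by
        have := congrArg Units.val e
        simpa using this
      rcases sq_eq_one_iff.1 this with h | h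
      · exact hz.2.1 h
      · exact hz.2.2 h
    refine hz ?_
    have h := hchr (tpt D (coVal D (D.P.coroot c₀).toAddMonoidHom z))
    rw [chr_coVal, LinearMap.toAddMonoidHom_coe, coroot_root, D.P.pairing_same] at h
    exact h

end Groth.Agent.DynX.SplitSimple
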