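import Groth.Agent.DynX.SplitConj
import Groth.Agent.RedCell22.LeviOp
import Mathlib.LinearAlgebra.RootSystem.Hom

/-!
# Two splittings with conjugate tori have isomorphic root data
-/

set_option autoImplicit false
set_option linter.unusedSectionVars false
set_option linter.style.haveILetI false

universe u

open CategoryTheory CategoryTheory.Limits AlgebraicGeometry MonoidalCategory CartesianMonoidalCategory
open MonObj GrpObj

noncomputable section

namespace Groth.Agent.DynX.SplitUnique

open RedCell22 SplitConj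

variable {k : Type u} [Field k] {G : Over (Spec (CommRingCat.of k))} [GrpObj G] {D D' : Red.SplitRed G}

/-- A point conjugating one split torus onto another, through a map of character groups. -/
def Carries (D D' : Red.SplitRed G) (g : 𝟙_ (Over (Spec (CommRingCat.of k))) ⟶ G) (e : D'.M →+ D.M) : Prop :=
  ∀ (B : Type u) [CommRing B] [Algebra k B] (χ : Multiplicative D.M →* Bˣ),
    gB g * tG D (tpt D χ) * (gB g)⁻¹ =
      (tG D' (tpt D' (χ.comp (AddMonoidHom.toMultiplicative e))) : tb (b0 k) B ⟶ G)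

theorem Carries.comp {D'' : Red.SplitRed G} {g h : 𝟙_ (Over (Spec (CommRingCat.of k))) ⟶ G}
    {e : D'.M →+ D.M} {e' : D''.M →+ D'.M} (hg : Carries D D' g e) (hh : Carries D' D'' h e') :
    Carries D D'' (h * g) (e.comp e') := by
  intro B _ _ χ
  have h1 := hh B (χ.comp (AddMonoidHom.toMultiplicative e))
  rw [← hg B χ] at h1
  rw [show χ.comp (AddMonoidHom.toMultiplicative (e.comp e')) =
    (χ.comp (AddMonoidHom.toMultiplicative e)).comp (AddMonoidHom.toMultiplicative e') from rfl, ← h1, gB_mul]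
  group

theorem carries_symm {g : 𝟙_ (Over (Spec (CommRingCat.of k))) ⟶ G} {e : D'.M ≃+ D.M}
    (hg : Carries D D' g e.toAddMonoidHom) : Carries D' D g⁻¹ e.symm.toAddMonoidHom := by
  intro B _ _ χ
  have h1 := hg B (χ.comp (AddMonoidHom.toMultiplicative e.symm.toAddMonoidHom))
  rw [show (χ.comp (AddMonoidHom.toMultiplicative e.symm.toAddMonoidHom)).comp
      (AddMonoidHom.toMultiplicative e.toAddMonoidHom) = χ from MonoidHom.ext fun m =>
        congrArg χ (congrArg Multiplicative.ofAdd (e.symm_apply_apply m.toAdd))] at h1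
  rw [← h1, gB_inv]
  group

theorem carries_refl {a : D.idx} {n : 𝟙_ (Over (Spec (CommRingCat.of k))) ⟶ G} (hn : IsReflPt D a n) :
    Carries D D n (reflHom D a) :=
  fun _ _ _ χ => hn.conj_tG χ

/-- A transported root is a root. -/
theorem exists_root_eq [IsAffineHom G.hom] {g : 𝟙_ (Over (Spec (CommRingCat.of k))) ⟶ G} {e : D'.M →+ D.M}
    (hg : Carries D D' g e) (he : Function.Injective e) (a' : D'.idx) :
    ∃ a, D.P.root a = e (D'.P.root a') := by
  let w : ∀ (B : Type u) [CommRing B] [Algebra k B], B → (tb (b0 k) B ⟶ G) :=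
    fun B _ _ x => (gB g)⁻¹ * ua D' a' x * gB g
  rcases eq_root_of_weight D (e (D'.P.root a')) w
    (fun φ x => by simp only [w]; rw [tm_mul, tm_mul, tm_inv, gB_map, ua_map])
    (fun B _ _ => by simp [w, ua_zero])
    (fun h => by
      have h' : (ua D' a' (DualNumber.eps : DualNumber k) : tb (b0 k) _ ⟶ G) = ua D' a' 0 := by
        rw [ua_zero]
        have := congrArg (fun q => gB g * q * (gB g)⁻¹) h
        simpa [w, _root_.mul_assoc] using this
      have := congrArg TrivSqZeroExt.snd (ua_injective D' a' h')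
      rw [DualNumber.snd_eps, TrivSqZeroExt.snd_zero] at this
      exact one_ne_zero this)
    (fun B _ _ t x => by
      obtain ⟨χ, rfl⟩ := tpt_surjective D t
      have h1 := conj_ua D' (tpt D' (χ.comp (AddMonoidHom.toMultiplicative e)) : tb (b0 k) B ⟶ D'.T) a' x
      rw [← hg B χ, chr_tpt] at h1
      rw [chr_tpt]
      simp only [w]
      rw [show χ (Multiplicative.ofAdd (e (D'.P.root a'))) =
        χ.comp (AddMonoidHom.toMultiplicative e) (Multiplicative.ofAdd (D'.P.root a')) from rfl, ← h1]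
      group) with h | h
  · exact absurd (he (h.trans (map_zero e).symm)) (D'.P.ne_zero a')
  · exact h

/-- Conjugation by a point normalising the torus exchanges the contracting groups. -/
theorem hasLimOne_conj {gam : 𝟙_ (Over (Spec (CommRingCat.of k))) ⟶ G} {σ : D.M →+ D.M} (hgam : Carries D D gam σ)
    {φ φ' : D.M →+ ℤ} (hφ : φ'.comp σ = φ) {B : Type u} [CommRing B] [Algebra k B] {w : tb (b0 k) B ⟶ G}
    (hw : (lam D φ').HasLimOne w) : (lam D φ).HasLimOne (gB gam * w * (gB gam)⁻¹) := by
  obtain ⟨h, h1, h2⟩ := hw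
  refine ⟨gB gam * h * (gB gam)⁻¹, ?_, ?_⟩
  · rw [tm_mul, tm_mul, tm_inv, gB_map, h1, Cochar.orb, Cochar.orb, Cochar.conj, Cochar.conj, tm_mul, tm_mul,
      tm_inv, gB_map]
    have e1 : tG D (tpt D (coVal D φ (Tu B))) =
        gB gam * tG D (tpt D (coVal D φ' (Tu B))) * (gB gam)⁻¹ := by
      rw [hgam]
      congr 2
      refine MonoidHom.ext fun m => ?_
      show _ = coVal D φ' (Tu B) (Multiplicative.ofAdd (σ m.toAdd))
      rw [coVal_apply, ← ofAdd_toAdd m, coVal_apply, ← hφ]
      rfl
    show _ = tG D (tpt D (coVal D φ (Tu B))) * _ * (tG D (tpt D (coVal D φ (Tu B))))⁻¹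
    rw [e1]
    show gB gam * (tG D (tpt D (coVal D φ' (Tu B))) * _ * (tG D (tpt D (coVal D φ' (Tu B))))⁻¹) * (gB gam)⁻¹ = _
    group
  · rw [tm_mul, tm_mul, tm_inv, gB_map, h2, _root_.mul_one, mul_inv_cancel]

theorem eq_id_of_fixes_roots [IsAlgClosed k] {gam : 𝟙_ (Over (Spec (CommRingCat.of k))) ⟶ G} {σ σ' : D.M →+ D.M}
    (hgam : Carries D D gam σ) (hσ : σ'.comp σ = AddMonoidHom.id D.M) (hfix : ∀ a, σ' (D.P.root a) = D.P.root a)
    (m : D.M) : σ m = m := by
  haveI : IsAffineHom G.hom := isAffineHom_of_split D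
  obtain ⟨φ, hreg, -⟩ := exists_separating D
  obtain ⟨n, l, hl⟩ := exists_posList D (-φ)
  obtain ⟨p, l', hl'⟩ := exists_posList D φ
  haveI := isOpenImmersion_cell hl hl' hreg
  let cm := RedSub.cellMap D l l'
  let gg : tb (b0 k) k ⟶ G := gB gam
  let bK : Spec (CommRingCat.of k) ⟶ Spec (CommRingCat.of k) :=
    Spec.map (CommRingCat.ofHom (algebraMap k k)) ≫ b0 k
  have hone : (1 : tb (b0 k) k ⟶ G).left (IsLocalRing.closedPoint k) ∈ cm.left.opensRange := by
    rw [← cellMap_one D l l' (b0 k)]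
    exact ⟨_, rfl⟩
  have hlift : ∀ h : tb (b0 k) k ⟶ G, h.left (IsLocalRing.closedPoint k) ∈ cm.left.opensRange →
      ∃ p : tb (b0 k) k ⟶ CellSrc D n p, p ≫ cm = h := fun h hh => by
    have hr : Set.range h.left ⊆ Set.range cm.left := by
      rintro _ ⟨z, rfl⟩
      obtain rfl : z = IsLocalRing.closedPoint k := Subsingleton.elim (α := Spec (CommRingCat.of k)) _ _
      exact hh
    exact ⟨Over.homMk (IsOpenImmersion.lift cm.left h.left hr)
      (by rw [← Over.w cm, IsOpenImmersion.lift_fac_assoc, Over.w]),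
      Over.OverMorphism.ext (IsOpenImmersion.lift_fac _ _ _)⟩
  let Φ : Over.mk bK ⊗ G ⟶ G := (fst _ _ ≫ gg) * snd _ _
  have hΦ : ∀ h : Over.mk bK ⟶ G, lift (𝟙 _) h ≫ Φ = gg * h := fun h => by
    show lift (𝟙 _) h ≫ (fst (Over.mk bK) G ≫ gg * snd (Over.mk bK) G) = _
    rw [MonObj.comp_mul, lift_snd, ← Category.assoc, lift_fst, Category.id_comp]
  obtain ⟨h, m₁, m₂⟩ := GrpSchLib.RankOne.exists_point_mem D.reductive bK Φ (snd _ _) cm.left.opensRange
    cm.left.opensRange gg⁻¹ 1 (by rw [hΦ, mul_inv_cancel]; exact hone) (by rw [lift_snd]; exact hone)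
  rw [hΦ] at m₁
  rw [lift_snd] at m₂
  obtain ⟨q₁, hq₁⟩ := hlift _ m₁
  obtain ⟨q₂, hq₂⟩ := hlift _ m₂
  obtain ⟨y', t', x', rfl⟩ := exists_cellPt D q₁
  obtain ⟨y, t, x, rfl⟩ := exists_cellPt D q₂
  rw [cellPt_cellMap] at hq₁ hq₂
  have hφ' : ∀ a, (φ.comp σ') (D.P.root a) = φ (D.P.root a) := fun a => congrArg φ (hfix a)
  have hY : (lam D (-φ)).HasLimOne (gg * word D l y * gg⁻¹) := by
    refine hasLimOne_conj hgam (φ' := -(φ.comp σ')) ?_ (hasLimOne_word D (fun j => ?_) y)
    · ext m
      show -(φ (σ' (σ m))) = -φ m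
      rw [show σ' (σ m) = m from DFunLike.congr_fun hσ m]
    · have := hl.pos D j
      simpa [hfix] using this
  obtain ⟨χ, hχ⟩ := tpt_surjective D t
  let T₁ : tb (b0 k) k ⟶ D.T := tpt D (χ.comp (AddMonoidHom.toMultiplicative σ))
  have hT₁ : gg * tG D t * gg⁻¹ = tG D T₁ := by rw [← hχ]; exact hgam k χ
  obtain ⟨c, hc⟩ := exists_word hl ((hY.inv _).mul _ (hasLimOne_word D (hl.pos D) y'))
  obtain ⟨d, hd⟩ := exists_word hl'
    (((hasLimOne_word D (hl'.pos D) x').mul _ ((hasLimOne_word D (hl'.pos D) x).inv _)) :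
      (lam D φ).HasLimOne ((word D l' x' : tb (b0 k) k ⟶ G) * (word D l' x)⁻¹))
  have hcell : gg = cellWord D l l' (fun j => (chr D (D.P.root (l j)) T₁⁻¹ : k) * c j) (T₁⁻¹ * t') d := by
    rw [cellWord, ← conj_word, hc, hd, tG_mul, tG_inv, _root_.inv_inv]
    have e : gg = (word D l y' * (tG D t' * word D l' x')) * (word D l y * (tG D t * word D l' x))⁻¹ := by
      rw [eq_mul_inv_iff_mul_eq]
      rw [← hq₂] at hq₁
      simpa [cellWord] using hq₁.symm
    rw [← hT₁]
    conv_lhs => rw [e]
    rw [e]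
    group
  have htor : gg = tG D (T₁⁻¹ * t') := by
    rw [hcell]
    refine cellWord_eq_torus hl hl'
      ⟨tpt D ((coVal D φ (Tu k)).comp (AddMonoidHom.toMultiplicative σ)), ?_⟩
    rw [← hcell, show tm (b0 k) CL ≫ gg = gB gam from gB_map gam _]
    exact hgam _ _
  let L := MonoidAlgebra k (Multiplicative D.M)
  have h := hgam L (uCh (k := k) k D.M)
  have hg : (gB gam : tb (b0 k) L ⟶ G) = tG D (tm (b0 k) (Algebra.ofId k L) ≫ (T₁⁻¹ * t')) := by
    rw [← tG_map, ← htor]
    exact (gB_map gam _).symm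
  rw [hg, ← tG_mul, torus_comm, tG_mul, mul_inv_cancel_right] at h
  have h' := congrArg (fun s => (chr D m s : L)) (tG_injective D h)
  simp only [chr_tpt] at h'
  exact congrArg Multiplicative.toAdd (MonoidAlgebra.single_left_injective one_ne_zero h' :).symm

theorem nonempty_equiv [IsAlgClosed k] (g : 𝟙_ (Over (Spec (CommRingCat.of k))) ⟶ G) (e : D'.M ≃+ D.M)
    (hg : Carries D D' g e.toAddMonoidHom) : Nonempty (RootPairing.Equiv D.P D'.P) := by
  classical
  haveI : IsAffineHom G.hom := isAffineHom_of_split D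
  have hr := fun a' => exists_root_eq hg e.injective a'
  have hr' := fun a => exists_root_eq (carries_symm hg) e.symm.injective a
  choose σ hσ using hr
  choose σ' hσ' using hr'
  have h1 : ∀ a, σ (σ' a) = a := fun a => D.P.root.injective (by rw [hσ, hσ']; exact e.apply_symm_apply _)
  have h2 : ∀ a', σ' (σ a') = a' := fun a' => D'.P.root.injective (by rw [hσ', hσ]; exact e.symm_apply_apply _)
  let idx : D.idx ≃ D'.idx := ⟨σ', σ, h1, h2⟩
  let W : D.M ≃ₗ[ℤ] D'.M := e.symm.toIntLinearEquiv
  have hW : ∀ a, W (D.P.root a) = D'.P.root (idx a) := fun a => (hσ' a).symm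
  have hcoroot : ∀ a, (D'.P.coroot (idx a)).comp W.toLinearMap = D.P.coroot a := by
    intro a
    set a' := idx a with ha'
    set α := D.P.root a
    have hα : e (D'.P.root a') = α := by rw [ha', ← hW]; exact e.apply_symm_apply _
    let f : Module.Dual ℤ D.M := D.P.coroot a
    let f' : Module.Dual ℤ D.M := (D'.P.coroot a').comp W.toLinearMap
    have hev : ∀ (E : Red.SplitRed G) (i : E.idx) (x : E.M), E.P.coroot' i x = E.P.coroot i x := fun E i x => by
      show E.P.toLinearMap x (E.P.coroot i) = _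
      rw [E.pairing_eq]
      rfl
    have hf2 : f α = 2 := by
      rw [← hev]
      exact D.P.root_coroot_two a
    have hf'2 : f' α = 2 := by
      show D'.P.coroot a' (W α) = 2
      rw [hW, ← hev]
      exact D'.P.root_coroot_two a'
    have hmap : Set.MapsTo (Module.preReflection α f) (Set.range D.P.root) (Set.range D.P.root) := by
      rintro _ ⟨c, rfl⟩
      refine ⟨D.P.reflectionPerm a c, ?_⟩
      rw [D.P.root_reflectionPerm, RootPairing.reflection_apply, Module.preReflection_apply, hev]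
    have hmap' : Set.MapsTo (Module.preReflection α f') (Set.range D.P.root) (Set.range D.P.root) := by
      rintro _ ⟨c, rfl⟩
      refine ⟨σ (D'.P.reflectionPerm a' (σ' c)), ?_⟩
      rw [hσ, D'.P.root_reflectionPerm, RootPairing.reflection_apply, Module.preReflection_apply, hev]
      show e _ = D.P.root c - D'.P.coroot a' (W (D.P.root c)) • α
      rw [map_sub, map_zsmul, hα, show D'.P.root (σ' c) = W (D.P.root c) from hσ' c,
        show e (W (D.P.root c)) = D.P.root c from e.apply_symm_apply _]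
    have hspan := Module.Dual.eq_of_preReflection_mapsTo' (Set.finite_range D.P.root)
      (Submodule.subset_span ⟨a, rfl⟩) hf2 hmap hf'2 hmap'
    have hroots : ∀ c, f (D.P.root c) = f' (D.P.root c) := fun c =>
      LinearMap.congr_fun hspan ⟨D.P.root c, Submodule.subset_span ⟨c, rfl⟩⟩
    -- the product of the two reflection points
    obtain ⟨n, hn⟩ := D.refl a
    obtain ⟨n', hn'⟩ := D'.refl a'
    let s : D.M →+ D.M := reflHom D a
    let s' : D.M →+ D.M := e.toAddMonoidHom.comp ((reflHom D' a').comp e.symm.toAddMonoidHom)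
    have hn'' : Carries D D (g⁻¹ * (n' * g)) s' := by
      have := (hg.comp (carries_refl (D := D') (a := a') hn')).comp (carries_symm hg)
      rwa [AddMonoidHom.comp_assoc] at this
    have hgam : Carries D D (n * (g⁻¹ * (n' * g))) (s'.comp s) := hn''.comp (carries_refl hn)
    have hs' : ∀ x, s' x = x - f' x • α := fun x => by
      show e (reflHom D' a' (e.symm x)) = _
      rw [reflHom_apply, map_sub, map_zsmul, hα, e.apply_symm_apply]
      rfl
    have hs : ∀ x, s x = x - f x • α := fun x => reflHom_apply a x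
    have hσe : ∀ x, (s'.comp s) x = x + (f x - f' x) • α := fun x => by
      show s' (s x) = _
      rw [hs', hs, map_sub, map_zsmul, hf'2]
      simp only [smul_eq_mul, sub_smul]
      module
    let τ : D.M →+ D.M := AddMonoidHom.mk' (fun x => x - (f x - f' x) • α) fun x y => by
      simp only [map_add, add_smul, sub_smul]
      abel
    have hτσ : τ.comp (s'.comp s) = AddMonoidHom.id D.M := AddMonoidHom.ext fun x => by
      show (s'.comp s) x - (f ((s'.comp s) x) - f' ((s'.comp s) x)) • α = x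
      rw [hσe, map_add, map_add, map_zsmul, map_zsmul, hf2, hf'2]
      simp only [smul_eq_mul, sub_smul, add_smul]
      module
    have hτfix : ∀ c, τ (D.P.root c) = D.P.root c := fun c => by
      show D.P.root c - (f (D.P.root c) - f' (D.P.root c)) • α = D.P.root c
      rw [hroots, sub_self, zero_smul, sub_zero]
    refine LinearMap.ext fun x => ?_
    show f' x = f x
    have h3 := eq_id_of_fixes_roots hgam hτσ hτfix x
    rw [hσe, add_eq_left, smul_eq_zero] at h3
    exact (sub_eq_zero.mp (h3.resolve_right (D.P.ne_zero a))).symm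
  refine ⟨{
    weightMap := W.toLinearMap
    coweightMap := W.toLinearMap.dualMap
    indexEquiv := idx
    weight_coweight_transpose := ?_
    root_weightMap := funext hW
    coroot_coweightMap := funext fun a' => ?_
    bijective_weightMap := W.bijective
    bijective_coweightMap := W.dualMap.bijective }⟩
  · refine LinearMap.ext fun q => LinearMap.ext fun x => ?_
    show D'.P.toLinearMap (W x) q = D.P.toLinearMap x (W.toLinearMap.dualMap q)
    rw [D.pairing_eq, D'.pairing_eq]
    rfl
  · show (D'.P.coroot a').comp W.toLinearMap = D.P.coroot (idx.symm a')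
    conv_lhs => rw [← idx.apply_symm_apply a']
    exact hcoroot (idx.symm a')

/-- Two splittings with mutually conjugate tori have isomorphic root data. -/
theorem equiv_of_conj [IsAlgClosed k] (D D' : Red.SplitRed G)
    (g g' : 𝟙_ (Over (Spec (CommRingCat.of k))) ⟶ G)
    (hg : ∀ (X : Over (Spec (CommRingCat.of k))) (t : X ⟶ D.T), ∃ t' : X ⟶ D'.T,
      (toUnit X ≫ g) * (t ≫ D.i) * (toUnit X ≫ g)⁻¹ = t' ≫ D'.i)
    (hg' : ∀ (X : Over (Spec (CommRingCat.of k))) (t : X ⟶ D'.T), ∃ t' : X ⟶ D.T,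
      (toUnit X ≫ g') * (t ≫ D'.i) * (toUnit X ≫ g')⁻¹ = t' ≫ D.i) :
    Nonempty (RootPairing.Equiv D.P D'.P) := by
  obtain ⟨ψ, hψ, hψc⟩ := exists_latticeMap D D' g hg
  obtain ⟨ψ', hψ', -⟩ := exists_latticeMap D' D g' hg'
  have hinj : Function.Injective ψ := by
    have hb := OrzechProperty.injective_of_surjective_endomorphism (ψ'.comp ψ).toIntLinearMap (hψ'.comp hψ)
    exact Function.Injective.of_comp hb
  let e : D'.M ≃+ D.M := AddEquiv.ofBijective ψ ⟨hinj, hψ⟩
  refine nonempty_equiv g e fun B _ _ χ => ?_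
  obtain ⟨t', ht', hc⟩ := hψc B (tpt D χ)
  rw [ht']
  congr 1
  refine tpt_ext D' fun m' => ?_
  rw [hc, chr_tpt, chr_tpt]
  rfl

end Groth.Agent.DynX.SplitUnique
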